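import Cfsg.Agent.H4.JT.Words
import Cfsg.Agent.H921.SporJ2
import Cfsg.Prelude.Def_GeometricClasses

/-!
# The Hall-Janko group in characteristic two, small degrees

* `j2_two_min` : a homomorphism to `GL_d(k)`, `d ≤ 5`, is trivial;
* `j2_two_eight` : no (absolutely) irreducible representation of degree 7 or 8.
-/

set_option autoImplicit false

namespace Cfsg.Agent.H4.JT

open Cfsg Cfsg.Geo Matrix Module

universe u v

/-- a set of matrices with a common fixed vector -/
theorem not_irred_of_vec {F : Type*} [Field F] {d : ℕ} (hd : 2 ≤ d) {S : Set (Matrix (Fin d) (Fin d) F)}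
    {u : Fin d → F} (hu : u ≠ 0) (h : ∀ M ∈ S, M *ᵥ u = u) : ¬ ActsIrreducibly S := by
  intro hirr
  rcases hirr (Submodule.span F {u}) (by
    intro M hM
    rw [Submodule.map_span, Set.image_singleton, Matrix.toLin'_apply, h M hM]) with h1 | h1
  · rw [Submodule.span_singleton_eq_bot] at h1
    exact hu h1
  · have h2 := finrank_span_singleton (K := F) hu
    rw [h1, finrank_top, Module.finrank_fintype_fun_eq_card, Fintype.card_fin] at h2
    omega

/-- a set of matrices with a common fixed functional -/
theorem not_irred_of_covec {F : Type*} [Field F] {d : ℕ} (hd : 2 ≤ d) {S : Set (Matrix (Fin d) (Fin d) F)}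
    {u : Fin d → F} (hu : u ≠ 0) (h : ∀ M ∈ S, u ᵥ* M = u) : ¬ ActsIrreducibly S := by
  intro hirr
  let W : Submodule F (Fin d → F) :=
    { carrier := {v | u ⬝ᵥ v = 0}
      add_mem' := fun {a b} ha hb => by
        change u ⬝ᵥ (a + b) = 0
        rw [dotProduct_add, show u ⬝ᵥ a = 0 from ha, show u ⬝ᵥ b = 0 from hb, add_zero]
      zero_mem' := dotProduct_zero u
      smul_mem' := fun c a ha => by
        change u ⬝ᵥ (c • a) = 0
        rw [dotProduct_smul, show u ⬝ᵥ a = 0 from ha, smul_zero] }
  obtain ⟨i, hi⟩ : ∃ i, u i ≠ 0 := by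
    by_contra hc
    push Not at hc
    exact hu (funext hc)
  rcases hirr W (by
    intro M hM v hv
    obtain ⟨w, hw, rfl⟩ := hv
    rw [Matrix.toLin'_apply]
    change u ⬝ᵥ (M *ᵥ w) = 0
    rw [Matrix.dotProduct_mulVec, h M hM]
    exact hw) with h1 | h1
  · obtain ⟨j, hj⟩ : ∃ j, j ≠ i := by
      have : Nontrivial (Fin d) := Fin.nontrivial_iff_two_le.2 hd
      exact exists_ne i
    have h2 : (Pi.single j (u i) - Pi.single i (u j) : Fin d → F) ∈ W := by
      change u ⬝ᵥ (Pi.single j (u i) - Pi.single i (u j)) = 0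
      rw [dotProduct_sub, dotProduct_single, dotProduct_single]
      ring
    rw [h1, Submodule.mem_bot] at h2
    have h3 := congrFun h2 j
    rw [Pi.sub_apply, Pi.single_eq_same, Pi.single_eq_of_ne hj] at h3
    apply hi
    simpa using h3
  · have h2 : (Pi.single i 1 : Fin d → F) ∈ W := by rw [h1]; trivial
    have h3 : u ⬝ᵥ (Pi.single i 1 : Fin d → F) = 0 := h2
    rw [dotProduct_single, mul_one] at h3
    exact hi h3

/-- a hom from the permutation group -/
theorem hundred_eight {F : Type u} [Field F] [CharP F 2] {d : ℕ} (hd : d = 7 ∨ d = 8)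
    (f : SporadicA.J2Hundred.G →* GL (Fin d) F) : ¬ ActsIrreducibly (matrixSet f.range) := by
  have hd2 : 2 ≤ d := by omega
  by_cases hx : f (J2.HundredGens.gw Words.wx) = 1
  · -- trivial
    have hs : IsSimpleGroup SporadicA.J2Hundred.G := SporadicA.J2Hundred.simple
    have h1 : f.ker = ⊤ := by
      refine (hs.eq_bot_or_eq_top_of_normal f.ker inferInstance).resolve_left fun h => ?_
      have h2 : J2.HundredGens.gw Words.wx ∈ f.ker := hx
      rw [h, Subgroup.mem_bot] at h2
      exact Words.x_ne h2
    apply not_irred_of_vec hd2 (u := fun _ => 1)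
    · intro h0
      have := congrFun h0 ⟨0, by omega⟩
      exact one_ne_zero this
    · rintro _ ⟨_, ⟨g, rfl⟩, rfl⟩
      have h3 : f g = 1 := by
        have : g ∈ f.ker := by rw [h1]; trivial
        exact this
      change ((f g : GL (Fin d) F) : Matrix (Fin d) (Fin d) F) *ᵥ _ = _
      rw [h3, Units.val_one, one_mulVec]
  · let E := AlgebraicClosure F
    have : CharP E 2 := charP_of_injective_algebraMap (algebraMap F E).injective 2
    obtain ⟨w, hw⟩ : ∃ w : E, w ^ 2 + w + 1 = 0 := by
      have h1 : (Polynomial.X ^ 2 + Polynomial.X + 1 : Polynomial E).degree ≠ 0 := by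
        have : (Polynomial.X ^ 2 + Polynomial.X + 1 : Polynomial E).degree = 2 := by compute_degree!
        rw [this]; norm_num
      obtain ⟨w, hw⟩ := IsAlgClosed.exists_root _ h1
      exact ⟨w, by simpa using hw⟩
    let ρ : SporadicA.J2Hundred.G →* Module.End E (Fin d → E) :=
      ((Matrix.toLinAlgEquiv' : Matrix (Fin d) (Fin d) E ≃ₐ[E] _).toMonoidHom.comp
        ((algebraMap F E).mapMatrix.toMonoidHom)).comp ((Units.coeHom _).comp f)
    have hρ : ∀ g v, ρ g v = ((f g : GL (Fin d) F) : Matrix (Fin d) (Fin d) F).map (algebraMap F E) *ᵥ v :=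
      fun g v => rfl
    have hρx : ρ (J2.HundredGens.gw Words.wx) ≠ 1 := by
      intro h
      apply hx
      apply Units.ext
      have h1 : ((f (J2.HundredGens.gw Words.wx) : GL (Fin d) F) : Matrix (Fin d) (Fin d) F).map (algebraMap F E) =
          1 := by
        apply Matrix.mulVec_injective
        funext v
        rw [← hρ, h, one_mulVec]
        rfl
      ext i j
      have h2 := congrFun (congrFun h1 i) j
      rw [Matrix.map_apply] at h2
      apply (algebraMap F E).injective
      rw [h2, Units.val_one]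
      by_cases hij : i = j
      · subst hij; rw [one_apply_eq, one_apply_eq, map_one]
      · rw [one_apply_ne hij, one_apply_ne hij, map_zero]
    have hn : finrank E (Fin d → E) = 7 ∨ finrank E (Fin d → E) = 8 := by
      rw [Module.finrank_fintype_fun_eq_card, Fintype.card_fin]; exact hd
    rcases Words.dat.exists_fixed hw ρ hn hρx with ⟨v, hv0, hv⟩ | ⟨φ, hφ0, hφ⟩
    · obtain ⟨i, hi⟩ : ∃ i, v i ≠ 0 := by
        by_contra hc
        push Not at hc
        exact hv0 (funext hc)
      obtain ⟨l, hl⟩ : ∃ l : E →ₗ[F] F, l (v i) ≠ 0 := by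
        by_contra hc
        push Not at hc
        exact hi ((Module.forall_dual_apply_eq_zero_iff F (v i)).1 hc)
      apply not_irred_of_vec hd2 (u := fun j => l (v j))
      · intro h0
        exact hl (congrFun h0 i)
      · rintro _ ⟨_, ⟨g, rfl⟩, rfl⟩
        funext j
        have h1 := congrFun (hv g) j
        rw [hρ] at h1
        change ∑ m, ((f g : GL (Fin d) F) : Matrix (Fin d) (Fin d) F) j m * l (v m) = l (v j)
        rw [← h1]
        change _ = l (∑ m, algebraMap F E (((f g : GL (Fin d) F) : Matrix (Fin d) (Fin d) F) j m) * v m)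
        rw [map_sum]
        apply Finset.sum_congr rfl
        intro m _
        rw [← Algebra.smul_def, map_smul, smul_eq_mul]
    · -- the functional
      let c : Fin d → E := fun j => φ (Pi.single j 1)
      have hφc : ∀ v : Fin d → E, φ v = ∑ j, v j * c j := by
        intro v
        conv_lhs => rw [pi_eq_sum_univ' v]
        rw [map_sum]
        apply Finset.sum_congr rfl
        intro j _
        rw [map_smul, smul_eq_mul]
      obtain ⟨i, hi⟩ : ∃ i, c i ≠ 0 := by
        by_contra hc
        push Not at hc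
        apply hφ0
        apply LinearMap.ext
        intro v
        rw [hφc]
        simp [hc]
      have hc : ∀ g m, ∑ j, algebraMap F E (((f g : GL (Fin d) F) : Matrix (Fin d) (Fin d) F) j m) * c j = c m := by
        intro g m
        have h1 := hφ g (Pi.single m 1)
        rw [hφc] at h1
        rw [show c m = φ (Pi.single m 1) from rfl, ← h1]
        apply Finset.sum_congr rfl
        intro j _
        rw [hρ, Matrix.mulVec_single_one]
        rfl
      obtain ⟨l, hl⟩ : ∃ l : E →ₗ[F] F, l (c i) ≠ 0 := by
        by_contra hcc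
        push Not at hcc
        exact hi ((Module.forall_dual_apply_eq_zero_iff F (c i)).1 hcc)
      apply not_irred_of_covec hd2 (u := fun j => l (c j))
      · intro h0
        exact hl (congrFun h0 i)
      · rintro _ ⟨_, ⟨g, rfl⟩, rfl⟩
        funext m
        change ∑ j, l (c j) * ((f g : GL (Fin d) F) : Matrix (Fin d) (Fin d) F) j m = l (c m)
        rw [← hc g m, map_sum]
        apply Finset.sum_congr rfl
        intro j _
        rw [← Algebra.smul_def, map_smul, smul_eq_mul, mul_comm]

/-- **degrees 7 and 8** -/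
theorem j2_two_eight_irr {F : Type u} [Field F] [CharP F 2] {G : Type v} [Group G] (hJ : Spor.IsoJ2 G) {d : ℕ}
    (hd : d = 7 ∨ d = 8) (f : G →* GL (Fin d) F) : ¬ ActsIrreducibly (matrixSet f.range) := by
  obtain ⟨e⟩ := hJ
  obtain ⟨e'⟩ := H921.Spor.J2.exists_iso
  let E : G ≃* SporadicA.J2Hundred.G := e.trans e'
  have h := hundred_eight hd (f.comp E.symm.toMonoidHom)
  have : (f.comp E.symm.toMonoidHom).range = f.range := by
    rw [MonoidHom.range_comp]
    have h2 : (E.symm.toMonoidHom).range = ⊤ := MonoidHom.range_eq_top.2 E.symm.surjective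
    rw [h2, ← MonoidHom.range_eq_map]
  rwa [this] at h

theorem j2_two_eight {F : Type*} [Field F] [Finite F] [CharP F 2] {G : Type*} [Group G] [Finite G]
    (hJ : Spor.IsoJ2 G) {d : ℕ} (hd : d = 7 ∨ d = 8) (f : G →* GL (Fin d) F) :
    ¬ ActsAbsolutelyIrreducibly (matrixSet f.range) := fun h => j2_two_eight_irr hJ hd f h.1

/-- a non-trivial homomorphism to `GL_d` of a group isomorphic to a simple group is a faithful representation -/
theorem pr_of_hom {k : Type u} [Field k] {d : ℕ} {T : Type v} [Group T] [IsSimpleGroup T] (f : T →* GL (Fin d) k)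
    (hf : f ≠ 1) (r : ℕ) : H912.Bd.PR k d r T := by
  have hinj : Function.Injective f := by
    rw [← MonoidHom.ker_eq_bot_iff]
    refine (IsSimpleGroup.eq_bot_or_eq_top_of_normal f.ker inferInstance).resolve_right fun h => hf ?_
    ext1 g
    have : g ∈ f.ker := by rw [h]; trivial
    exact this
  let e := MonoidHom.ofInjective hinj
  refine ⟨f.range, inferInstance, e.symm.toMonoidHom, f.range.subtype, e.symm.surjective, ?_, ?_, ?_⟩
  · intro x hx y
    have h1 : x = 1 := by
      apply e.symm.injective
      rw [map_one]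
      exact hx
    rw [h1, one_mul, mul_one]
  · have h1 : (e.symm.toMonoidHom).ker = ⊥ := (MonoidHom.ker_eq_bot_iff _).2 e.symm.injective
    rw [h1, Subgroup.card_bot]
    exact Nat.coprime_one_left r
  · rw [(MonoidHom.ker_eq_bot_iff _).2 f.range.subtype_injective]
    exact bot_le

/-- **degrees at most 5** -/
theorem j2_two_min {k : Type*} [Field k] [CharP k 2] {G : Type*} [Group G] [Finite G] (hJ : Spor.IsoJ2 G) {d : ℕ}
    (hd : d ≤ 5) (f : G →* GL (Fin d) k) : f = 1 := by
  by_contra hf
  have h7 : ((7 : ℕ) : k) ≠ 0 := by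
    intro h
    rw [CharP.cast_eq_zero_iff k 2] at h
    norm_num at h
  have hs : IsSimpleGroup SporadicA.J2Hundred.G := SporadicA.J2Hundred.simple
  obtain ⟨e'⟩ := H921.Spor.J2.exists_iso
  obtain ⟨e⟩ := hJ
  have hG : IsSimpleGroup G := (e.trans e').isSimpleGroup
  have h1 := (H921.Spor.J2.J2_seven.bd (F := k) (by norm_num) h7)
  have h2 := h1 d ((pr_of_hom f hf 7).sub e.symm.toMonoidHom e.symm.injective)
  omega

end Cfsg.Agent.H4.JT
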