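import Cfsg.Agent.H4.JT.Fixed
import Cfsg.Agent.J2.HundredGens

/-!
# The elements of `Dat` in the Hall-Janko group on 100 points
-/

set_option autoImplicit false
set_option maxRecDepth 100000

namespace Cfsg.Agent.H4.JT

open Cfsg Cfsg.Agent.J2.HundredGens Cfsg.Agent.SporadicA.PermTab Cfsg.Agent.SporadicA.J2Hundred

namespace Words

/-- order 3, class 3A -/
def wx : List ℕ := [4, 3]
/-- order 5 -/
def wy : List ℕ := [0, 1]
/-- an involution commuting with `wy` -/
def wt : List ℕ := [2, 3, 1, 0, 1, 2, 3, 0, 1, 2, 3, 4, 3, 2, 3, 1, 2, 3, 0, 1, 0, 1, 2]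
/-- conjugates `wy` -/
def wc1 : List ℕ := [3, 2, 3, 4, 3, 2, 3, 2, 1, 0, 1, 2, 3, 4, 1, 2, 3, 2]
/-- conjugates `wy` -/
def wc2 : List ℕ := [3, 2, 3, 4, 2, 3, 2, 3, 1, 0, 1, 2, 3, 4, 1, 2, 3, 2]
/-- elements of order four commuting with `wx` -/
def wg : Fin 6 → List ℕ := ![[4, 3, 2, 3, 4, 3, 2, 3, 2], [4, 3, 0, 1, 0, 1, 2, 3, 4, 3, 2, 3, 2, 1, 0, 1, 0],
  [1, 2, 3, 4, 3, 2, 3, 1, 2, 3, 4, 3, 1, 2, 3, 2, 1, 0], [4, 3, 1, 0, 1, 2, 3, 4, 3, 2, 3, 2, 1, 0, 1],
  [0, 1, 2, 3, 4, 2, 3, 1, 2, 3, 4, 1, 2, 3, 2, 0, 1, 0, 1, 0],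
  [0, 1, 2, 3, 4, 2, 3, 2, 3, 1, 0, 1, 2, 3, 4, 3, 2, 3, 2, 1, 0, 1, 0]]

theorem gm (L M : List ℕ) : gw L * gw M = gw (L ++ M) := Subtype.ext (pw_mul L M)

theorem ge {L M : List ℕ} (h : chk L M = true) : gw L = gw M := Subtype.ext (pw_eq h)

theorem g1 : gw [] = 1 := Subtype.ext pw_nil

theorem gen_eq {S : Subgroup G} (h : ∀ k < 5, gw [k] ∈ S) : S = ⊤ := by
  have hle : Subgroup.closure gens ≤ S.map G.subtype := by
    rw [Subgroup.closure_le]
    rintro p (rfl | rfl | rfl | rfl | rfl)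
    · exact ⟨gw [0], h 0 (by norm_num), mul_one _⟩
    · exact ⟨gw [1], h 1 (by norm_num), mul_one _⟩
    · exact ⟨gw [2], h 2 (by norm_num), mul_one _⟩
    · exact ⟨gw [3], h 3 (by norm_num), mul_one _⟩
    · exact ⟨gw [4], h 4 (by norm_num), mul_one _⟩
  rw [eq_top_iff]
  intro a _
  obtain ⟨b, hb, hab⟩ := hle a.2
  rwa [← Subtype.ext hab]

/-- **the data** -/
theorem dat : Dat (gw wx) (gw wy) (gw wt) (gw [4]) (gw wc1) (gw wc2) (fun i => gw (wg i)) where
  x3 := by simp only [gm]; rw [← g1]; exact ge (by decide +kernel)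
  y5 := by simp only [gm]; rw [← g1]; exact ge (by decide +kernel)
  xy := by simp only [gm]; exact ge (by decide +kernel)
  t2 := by simp only [gm]; rw [← g1]; exact ge (by decide +kernel)
  ty := by simp only [gm]; exact ge (by decide +kernel)
  k5 := by simp only [gm]; rw [← g1]; exact ge (by decide +kernel)
  rx := by simp only [gm]; exact ge (by decide +kernel)
  ry := by simp only [gm]; exact ge (by decide +kernel)
  gx i := by
    simp only [gm]
    apply ge
    revert i
    decide +kernel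
  g4 i := by
    simp only [gm]
    rw [← g1]
    apply ge
    revert i
    decide +kernel
  ey := by simp only [gm]; exact ge (by decide +kernel)
  ex := by simp only [gm]; exact ge (by decide +kernel)
  hc1 := by simp only [pow_succ, pow_zero, one_mul, gm]; exact ge (by decide +kernel)
  hc2 := by simp only [pow_succ, pow_zero, one_mul, gm]; exact ge (by decide +kernel)
  gen := by
    set S := Subgroup.closure ({gw wt} ∪ Set.range fun i => gw (wg i) * gw (wg i)) with hS
    have hg : ∀ i, gw (wg i) * gw (wg i) ∈ S := fun i => Subgroup.subset_closure (Or.inr ⟨i, rfl⟩)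
    have ht : gw wt ∈ S := Subgroup.subset_closure (Or.inl rfl)
    have h0 : gw [0] ∈ S := by
      have : gw (wg 0) * gw (wg 0) = gw [0] := by rw [gm]; exact ge (by decide +kernel)
      rw [← this]; exact hg 0
    have h1 : gw [1] ∈ S := by
      have : gw (wg 1) * gw (wg 1) = gw [1] := by rw [gm]; exact ge (by decide +kernel)
      rw [← this]; exact hg 1
    have hx : gw wx ∈ S := by
      have : gw wx = gw (wg 2) * gw (wg 2) * (gw (wg 3) * gw (wg 3) * (gw (wg 4) * gw (wg 4) *
        (gw (wg 5) * gw (wg 5)))) := by simp only [gm]; exact ge (by decide +kernel)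
      rw [this]
      exact S.mul_mem (hg 2) (S.mul_mem (hg 3) (S.mul_mem (hg 4) (hg 5)))
    have h3 : gw [3] ∈ S := by
      have : gw [3] = gw wt * (gw wx * (gw wt * (gw wx * (gw wx * (gw wt * (gw wx * (gw wt * (gw wx *
        (gw wx * gw wt))))))))) := by simp only [gm]; exact ge (by decide +kernel)
      rw [this]
      exact S.mul_mem ht (S.mul_mem hx (S.mul_mem ht (S.mul_mem hx (S.mul_mem hx (S.mul_mem ht (S.mul_mem hx
        (S.mul_mem ht (S.mul_mem hx (S.mul_mem hx ht)))))))))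
    have h4 : gw [4] ∈ S := by
      have : gw [4] = gw wt * (gw wx * (gw wx * (gw wt * (gw wx * (gw wt * (gw wx * (gw wx * (gw wt *
        (gw wx * gw wt))))))))) := by simp only [gm]; exact ge (by decide +kernel)
      rw [this]
      exact S.mul_mem ht (S.mul_mem hx (S.mul_mem hx (S.mul_mem ht (S.mul_mem hx (S.mul_mem ht (S.mul_mem hx
        (S.mul_mem hx (S.mul_mem ht (S.mul_mem hx ht)))))))))
    have h2 : gw [2] ∈ S := by
      have : gw [2] = gw wt * (gw [1] * ((gw (wg 4) * gw (wg 4)) * (gw wt * (gw [1] * gw [0])))) := by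
        simp only [gm]; exact ge (by decide +kernel)
      rw [this]
      exact S.mul_mem ht (S.mul_mem h1 (S.mul_mem (hg 4) (S.mul_mem ht (S.mul_mem h1 h0))))
    apply gen_eq
    intro k hk
    interval_cases k
    · exact h0
    · exact h1
    · exact h2
    · exact h3
    · exact h4

theorem x_ne : gw wx ≠ 1 := by
  intro h
  have h1 : pw wx = 1 := congrArg Subtype.val h
  have h2 := pw_val wx 0
  rw [h1] at h2
  revert h2
  decide +kernel

end Words

end Cfsg.Agent.H4.JT
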