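import Cfsg.Agent.S2066
import Cfsg.Prelude.Def_Spor_J2

/-!
# The automorphism group of the Hall-Janko group
-/

set_option autoImplicit false

namespace Cfsg.Agent.H4.JT

open Cfsg

/-- `|Aut J2| ≤ 2 |J2|` -/
theorem j2_aut_card {G : Type*} [Group G] [Finite G] (hJ : Spor.IsoJ2 G) : Nat.card (MulAut G) ≤ 2 * Nat.card G := by
  obtain ⟨e⟩ := hJ
  have hfin : Finite Spor.J2 := Finite.of_equiv G e.toEquiv
  have h1 : Nat.card (MulAut G) = Nat.card (MulAut Spor.J2) := Nat.card_congr (MulAut.congr e).toEquiv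
  have h2 : (Cfsg.Inn Spor.J2).index = 2 := S2066.result
  have h3 := (Cfsg.Inn Spor.J2).index_mul_card
  have h4 : Nat.card (Cfsg.Inn Spor.J2) ≤ Nat.card Spor.J2 :=
    Nat.card_le_card_of_surjective _ (MulAut.conj : Spor.J2 →* MulAut Spor.J2).rangeRestrict_surjective
  rw [h1, ← h3, h2, Nat.card_congr e.toEquiv]
  omega

end Cfsg.Agent.H4.JT
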