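import Cfsg.Agent.J2.ModCheck
import Cfsg.Agent.J2.SixGens

/-!
# Kernel-fast checks of relations in the double cover of the Hall-Janko group

`rv i` (`i < 315`) : the 315 roots up to units; `Wd L` : the product of the reflections with numbers in `L`;
`fchk L M = true` implies `Wd L = Wd M`, `fchkN L M = true` implies `Wd L = -Wd M` (computation modulo 29).
-/

set_option autoImplicit false
set_option maxRecDepth 100000

namespace Cfsg.Agent.H4.JT.Fast

open Subgroup Cfsg.Spor Cfsg.Agent.J2.ZTau Cfsg.Agent.J2.Ico Cfsg.Agent.J2.Lattice Cfsg.Agent.J2.Refl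
  Cfsg.Agent.J2.Group Cfsg.Agent.J2.Norm Cfsg.Agent.J2.ModPrime Cfsg.Agent.J2.ModCheck Cfsg.Agent.J2.Stab
  Cfsg.Agent.J2.SixGens

/-- the table of roots -/
def tT : ℕ := 0x9658ddc659699249248e396bc659699249247ac91da9e929924924a9c92ba9e9299249249237647ab9168e4b2b925ae47ab9168e4b2b7ab9169237648e4b2ba9d9329237648e4b2b7ab916925ae48e4b2ba9d932925ae48e4b2b923764a9d9328e4b2b925ae4a9d9328e4b2baea5a492376c8e492b75eca492376c8e492b92376caea5a48e492b925adcaea5a48e492b92376c75eca48e492b925adc75eca48e492baea5a4925adc8e492b75eca4925adc8e492b92376496471da9d932925ae496471da9d93296471d923764a9d9328e4b2b923764a9d93296471d925ae4a9d9328e4b2b925ae4a9d9329237648e4b2ba9d932925ae48e4b2ba9d9329249249658ddc659699658dd924924c659698e396b924924c659699249248e396bc659699249247ac91da9e9297ac91d924924a9e929a9c92b924924a9e929924924a9c92ba9e9298e49647ab91692592b9648e47ab91692592b923764aea7a492592b925ae4aea7a492592b7ab9168e496492592ba9d9328e496492592baea7a492376492592b75eaa492376492592baea7a4925ae492592b75eaa4925ae492592b7ab9169648e492592ba9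d9329648e492592b92376475eaa492592b925ae475eaa492592b8e4964a9d93292592b9648e4a9d93292592b8e47647ab91e8e492b964ae47ab91e8e492b7ab91e8e47648e492ba9d92a8e47648e492b7ab91e964ae48e492ba9d92a964ae48e492b8e4764a9d92a8e492b964ae4a9d92a8e492b92376c7ab91e925923925adc7ab91e9259237ab91e92376c925923a9d92a92376c9259238e4764aea5a4925923964ae4aea5a4925923aea5a48e476492592375eca48e4764925923aea5a4964ae492592375eca4964ae49259238e476475eca4925923964ae475eca49259237ab91e925adc925923a9d92a925adc92592392376ca9d92a925923925adca9d92a92592392592479daa5aec92392392479daa5aec92379daa5925924aec923aab7a3925924aec92379daa5923924aec923aab7a3923924aec923925924aab7a3aec923923924aab7a3aec9239249257eb8d79249239249237eb8d7924923924925ae95e5924923924923ae95e59249237eb8d7924925924923ae95e592492592492375fc63924925924923a5d9719249259249237eb8d7924923924923ae95e592492392492375fc63924923924923a5d97192492392492392492575fc6392492392492375fc63924923924925a5d971924923924923a5d9719249238e496492391da9d9329648e492391da9d93292391d8e4964a9d93292592b8e4964a9d9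3292391d9648e4a9d93292592b9648e4a9d9328e496492592ba9d9329648e492592ba9d9328e476496491da9d92a964ae496491da9d92a96491d8e4764a9d92a8e492b8e4764a9d92a96491d964ae4a9d92a8e492b964ae4a9d92a8e47648e492ba9d92a964ae48e492ba9d92a96492472b964ade8ea8e492472b964ade8ea72b964964924ade8eab1d8e4964924ade8ea72b9648e4924ade8eab1d8e48e4924ade8ea964924b1d8e4ade8ea8e4924b1d8e4ade8ea924964924964a5d9719248e4924964a5d9719249649248e4a5d9719248e49248e4a5d9718e49648e4964ade8e99648e48e4964ade8e98e49649648e4ade8e99648e49648e4ade8e992b76476491eb258e391dae476491eb258e376491e92b764b258e3ae492a92b764b258e376491e91dae4b258e3ae492a91dae4b258e392b764ae492ab258e391dae4ae492ab258e376492496c91daa592aae492496c91daa592a96c91d764924aa592a8dc92b764924aa592a96c91dae4924aa592a8dc92bae4924aa592a7649248dc92baa592aae49248dc92baa592a92b764723965ae492a91dae4723965ae492a72396592b764ae492ab258e392b764ae492a72396591dae4ae492ab258e391dae4ae492a92b764b258e3ae492a91dae4b258e3ae492a8e3964aeb7a492492b9658e4aeb7a492492baeb7a48e396492492b75daa48e396492492baeb7a49658e4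92492b75daa49658e492492b8e396475daa492492b9658e475daa492492b923964aab7a49259239258e4aab7a4925923aab7a492396492592379daa4923964925923aab7a49258e492592379daa49258e492592392396479daa49259239258e479daa492592392476476b91e8e5923924ae476b91e8e592376b91e9247648e5923add92a9247648e592376b91e924ae48e5923add92a924ae48e5923924764add92a8e5923924ae4add92a8e59239249647eb9169249239248e47eb916924923924964ae95a49249239248e4ae95a49249237eb916924964924923ae95a492496492492375fca4924964924923a5d9329249649249237eb9169248e4924923ae95a49248e492492375fca49248e4924923a5d9329248e492492392496475fca49249239248e475fca4924923924964a5d9329249239248e4a5d9329249238e496476a91e8e49239648e476a91e8e492376a91e8e49648e4923ade92a8e49648e492376a91e9648e48e4923ade92a9648e48e49238e4964ade92a8e49239648e4ade92a8e4923924964924925a5d9329248e4924925a5d932924925924964a5d932924923924964a5d9329249259248e4a5d9329249239248e4a5d932924964924923a5d9329248e4924923a5d9328e4964964925ade92a9648e4964925ade92a9649258e4964ade92a8e49238e4964ade92a9649259648e4ade92a8e492396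48e4ade92a8e49648e4923ade92a9648e48e4923ade92a924764963925add92a924ae4963925add92a963925924764add92a8e5923924764add92a963925924ae4add92a8e5923924ae4add92a9247648e5923add92a924ae48e5923add92a92496476b9169249239248e476b91692492376b916924964924923add93292496492492376b9169248e4924923add9329248e4924923924964add9329249239248e4add932924923964924964add925ae38e4924964add925ae3964add964924925ae38e476b964924925ae3964add8e4924925ae38e476b8e4924925ae39649248e476b925ae38e49248e476b925ae3924964924925add9329248e4924925add932924925924964add932924923924964add9329249259248e4add9329249239248e4add932924964924923add9329248e4924923add93276492592b96592b924ae492392b96592b92492b96576492592b92491d8e376492592b92492b965ae492392b92491d8e3ae492392b92476492591d8e392b924ae492391d8e392b92491d92492b965ae492392b92492b965ae492392b96591d924ae492391d8e391d924ae492392b96592b924ae492391d8e392b924ae492391d92491d8e3ae492392b92491d8e3ae492391d92476492591d8e392b92476492591d8e376492591d92491d8e3ae492391d92491d8e376492592b92491d8e3ae492392b92491d8e391d9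24ae492391d8e392b924ae492391d8e392492576b96592492392492376b96592492376b965924925924923add8e392492592492376b965924923924923add8e3924923924923924925add8e3924923924923add8e3924923924925924925add8e3924923924925add8e3924925924923add8e3924923924923add8e39249659248e39249249248e59248e39249249249639248e39249249248e39248e39249249259248e4b249239249239248e4b249239248e4b249259249239249647249259249239248e4b2492392492392496472492392492392492592496472492392492392496472492392496492496492492591c8e492496492492591c9649248e492492591c8e49248e492492591c9249249249659248e39249249248e59248e39249659249249248e39248e59249249248e39249639249249248e39248e39249249248e39249249249639248e39249249248e39248e3924922924924924924924924924922924924924924924924924922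

/-- the code of a root -/
def tb (i : ℕ) : ℕ := Nat.mod (Nat.shiftRight tT (Nat.mul 72 i)) 4722366482869645213696

/-- the root -/
def rv (i : ℕ) : Vec := dec (tb i)

/-- check all numbers below a bound -/
def allB (f : ℕ → Bool) : ℕ → Bool
  | 0 => true
  | n + 1 => f n && allB f n

theorem allB_iff {f : ℕ → Bool} {n : ℕ} (h : allB f n = true) {i : ℕ} (hi : i < n) : f i = true := by
  induction n with
  | zero => omega
  | succ n ih =>
    have h1 : (f n && allB f n) = true := h
    rw [Bool.and_eq_true] at h1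
    rcases Nat.lt_succ_iff_lt_or_eq.1 hi with h2 | h2
    · exact ih h1.2 h2
    · rw [h2]; exact h1.1

theorem root_all : allB (fun i => rootB (rv i)) 315 = true := by decide +kernel

theorem root_rv {i : ℕ} (hi : i < 315) : IsRoot (rv i) := rootB_iff.1 (allB_iff root_all hi)

/-- the word -/
def wq (L : List ℕ) : List Vec := L.map rv

/-- the element -/
noncomputable def Wd (L : List ℕ) : W := wd (wq L)

theorem Wd_append (L M : List ℕ) : Wd (L ++ M) = Wd L * Wd M := by
  unfold Wd wq; rw [List.map_append, wd_append]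

theorem Wd_nil : Wd [] = 1 := wd_nil

theorem Wd_reverse (L : List ℕ) : Wd L.reverse = (Wd L)⁻¹ := by
  unfold Wd wq; rw [List.map_reverse, wd_reverse]

/-- residues of a vector -/
structure QV where
  /-- coordinate -/
  x : Q4
  /-- coordinate -/
  y : Q4
  /-- coordinate -/
  z : Q4

/-- `q` represents `v` -/
def RelV (v : Vec) (q : QV) : Prop := Rel v.x q.x ∧ Rel v.y q.y ∧ Rel v.z q.z

/-- residues of a code -/
def qv (n : ℕ) : QV := ⟨qdec n 0, qdec n 8, qdec n 16⟩

theorem rel_dec (n : ℕ) : RelV (dec n) (qv n) := ⟨rel_ic n 0, rel_ic n 8, rel_ic n 16⟩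

/-- reduction -/
def qr (q : Q4) : Q4 := ⟨Nat.mod q.a 29, Nat.mod q.b 29, Nat.mod q.c 29, Nat.mod q.d 29⟩

theorem Rel.qr {x : Icos} {q : Q4} (h : Rel x q) : Rel x (qr q) := by
  obtain ⟨a0, a1, a2, a3⟩ := h
  refine ⟨?_, ?_, ?_, ?_⟩
  · rw [a0]; exact (cmod _).symm
  · rw [a1]; exact (cmod _).symm
  · rw [a2]; exact (cmod _).symm
  · rw [a3]; exact (cmod _).symm

/-- one reflection with given half product -/
def stepH (h : Q4) (g v : QV) : QV := ⟨qr (qref h v.x g.x), qr (qref h v.y g.y), qr (qref h v.z g.z)⟩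

/-- one reflection -/
def step (g v : QV) : QV := stepH (qr (qhip v.x v.y v.z g.x g.y g.z)) g v

/-- run a word -/
def runq (L : List ℕ) (v : QV) : QV := L.foldr (fun i v => step (qv (tb i)) v) v

theorem step_rel {g v : Vec} {a b : QV} (hg : IsRoot g) (hv : InLam v) (ha : RelV g a) (hb : RelV v b) :
    RelV (Cfsg.Agent.J2.Lattice.refl g v) (step a b) := by
  have hh : Rel (hip v g) (qr (qhip b.x b.y b.z a.x a.y a.z)) := by
    apply Rel.qr
    refine Rel.half (hip_add_hip hv hg.1) ?_
    exact Rel.add (Rel.add (Rel.mul hb.1 (Rel.star ha.1)) (Rel.mul hb.2.1 (Rel.star ha.2.1)))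
      (Rel.mul hb.2.2 (Rel.star ha.2.2))
  exact ⟨Rel.qr (Rel.sub hb.1 (Rel.mul hh ha.1)), Rel.qr (Rel.sub hb.2.1 (Rel.mul hh ha.2.1)),
    Rel.qr (Rel.sub hb.2.2 (Rel.mul hh ha.2.2))⟩

/-- all letters are numbers of roots -/
def okL (L : List ℕ) : Bool := L.all (fun i => Nat.ble i 314)

theorem okL_cons {i : ℕ} {L : List ℕ} (h : okL (i :: L) = true) : i < 315 ∧ okL L = true := by
  unfold okL at h ⊢
  rw [List.all_cons, Bool.and_eq_true] at h
  exact ⟨Nat.lt_succ_of_le (Nat.le_of_ble_eq_true h.1), h.2⟩

theorem run_rel {L : List ℕ} (hL : okL L = true) {v : Vec} {b : QV} (hv : IsRoot v) (hb : RelV v b) :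
    IsRoot (run (wq L) v) ∧ RelV (run (wq L) v) (runq L b) := by
  induction L with
  | nil => exact ⟨hv, hb⟩
  | cons i L ih =>
    obtain ⟨hi, hL'⟩ := okL_cons hL
    obtain ⟨h1, h2⟩ := ih hL'
    exact ⟨isRoot_refl (root_rv hi) h1, step_rel (root_rv hi) h1.1 (rel_dec _) h2⟩

theorem rootsB_wq {L : List ℕ} (hL : okL L = true) : rootsB (wq L) = true := by
  induction L with
  | nil => rfl
  | cons i L ih =>
    obtain ⟨hi, hL'⟩ := okL_cons hL
    have h1 := ih hL'
    unfold rootsB at h1 ⊢
    unfold wq at h1 ⊢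
    rw [List.map_cons, List.all_cons, h1, rootB_iff.2 (root_rv hi)]
    rfl

/-- equality of residues -/
def qveq (a b : QV) : Bool := qeq a.x b.x && (qeq a.y b.y && qeq a.z b.z)

/-- negation -/
def qneg (a : QV) : QV := ⟨qsmul 28 a.x, qsmul 28 a.y, qsmul 28 a.z⟩

theorem eq_of_qveq {s t : Vec} {a b : QV} (hs : IsRoot s) (ht : IsRoot t) (ha : RelV s a) (hb : RelV t b)
    (h : qveq a b = true) : s = t := by
  unfold qveq at h
  rw [Bool.and_eq_true, Bool.and_eq_true] at h
  obtain ⟨h0, h1, h2⟩ := h
  have e0 := Rel.eq ha.1 hb.1 h0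
  have e1 := Rel.eq ha.2.1 hb.2.1 h1
  have e2 := Rel.eq ha.2.2 hb.2.2 h2
  exact eq_of_rho hs ht e0.1 e0.2.1 e0.2.2.1 e0.2.2.2 e1.1 e1.2.1 e1.2.2.1 e1.2.2.2 e2.1 e2.2.1 e2.2.2.1 e2.2.2.2

theorem isRoot_neg {v : Vec} (h : IsRoot v) : IsRoot (-v) := by
  have h1 := isRoot_smul (u := (-1 : Icos)) h (by decide)
  have h2 : (-1 : Icos) • v = -v := neg_one_smul Icos v
  rwa [h2] at h1

theorem rel_neg {v : Vec} {a : QV} (h : RelV v a) : RelV (-v) (qneg a) := by
  have key : ∀ {x : Icos} {q : Q4}, Rel x q → Rel (-x) (qsmul 28 q) := by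
    intro x q hx
    obtain ⟨a0, a1, a2, a3⟩ := hx
    refine ⟨?_, ?_, ?_, ?_⟩ <;>
      simp only [neg_p0, neg_p1, neg_p2, neg_p3, map_neg, a0, a1, a2, a3, qsmul, cmul, c28] <;> ring
  exact ⟨key h.1, key h.2.1, key h.2.2⟩

/-- code of `e1` -/
def k1 : ℕ := 2698495133068368693542
/-- code of `e2` -/
def k2 : ℕ := 2698495133068402247972
/-- code of `e3` -/
def k3 : ℕ := 2698495696018322114852

theorem dk1 : dec k1 = e1 := by decide +kernel
theorem dk2 : dec k2 = e2 := by decide +kernel
theorem dk3 : dec k3 = e3 := by decide +kernel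

/-- compare two words on one vector -/
def cmp (L M : List ℕ) (v : QV) : Bool := qveq (runq L v) (runq M v)

/-- compare two words on one vector up to sign -/
def cmpN (L M : List ℕ) (v : QV) : Bool := qveq (runq L v) (qneg (runq M v))

/-- the two words agree -/
def fchk (L M : List ℕ) : Bool :=
  okL L && (okL M && (cmp L M (qv k1) && (cmp L M (qv k2) && cmp L M (qv k3))))

/-- the two words agree up to sign -/
def fchkN (L M : List ℕ) : Bool :=
  okL L && (okL M && (cmpN L M (qv k1) && (cmpN L M (qv k2) && cmpN L M (qv k3))))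

theorem cmp_eq {L M : List ℕ} (hL : okL L = true) (hM : okL M = true) {n : ℕ} (hn : IsRoot (dec n))
    (h : cmp L M (qv n) = true) : run (wq L) (dec n) = run (wq M) (dec n) := by
  obtain ⟨a1, a2⟩ := run_rel hL hn (rel_dec n)
  obtain ⟨b1, b2⟩ := run_rel hM hn (rel_dec n)
  exact eq_of_qveq a1 b1 a2 b2 h

theorem cmpN_eq {L M : List ℕ} (hL : okL L = true) (hM : okL M = true) {n : ℕ} (hn : IsRoot (dec n))
    (h : cmpN L M (qv n) = true) : run (wq L) (dec n) = -run (wq M) (dec n) := by
  obtain ⟨a1, a2⟩ := run_rel hL hn (rel_dec n)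
  obtain ⟨b1, b2⟩ := run_rel hM hn (rel_dec n)
  exact eq_of_qveq a1 (isRoot_neg b1) a2 (rel_neg b2) h

theorem chk_of_fchk {L M : List ℕ} (h : fchk L M = true) : Cfsg.Agent.J2.SixGens.chk (wq L) (wq M) = true := by
  unfold fchk at h
  simp only [Bool.and_eq_true] at h
  obtain ⟨hL, hM, h1, h2, h3⟩ := h
  have e1' := cmp_eq hL hM (by rw [dk1]; exact root_e1) h1
  have e2' := cmp_eq hL hM (by rw [dk2]; exact root_e2) h2
  have e3' := cmp_eq hL hM (by rw [dk3]; exact root_e3) h3
  rw [dk1] at e1'; rw [dk2] at e2'; rw [dk3] at e3'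
  unfold Cfsg.Agent.J2.SixGens.chk
  rw [rootsB_wq hL, rootsB_wq hM, Bool.true_and, Bool.true_and, decide_eq_true_iff]
  exact ⟨e1', e2', e3'⟩

theorem chkN_of_fchkN {L M : List ℕ} (h : fchkN L M = true) : Cfsg.Agent.J2.SixGens.chkN (wq L) (wq M) = true := by
  unfold fchkN at h
  simp only [Bool.and_eq_true] at h
  obtain ⟨hL, hM, h1, h2, h3⟩ := h
  have e1' := cmpN_eq hL hM (by rw [dk1]; exact root_e1) h1
  have e2' := cmpN_eq hL hM (by rw [dk2]; exact root_e2) h2
  have e3' := cmpN_eq hL hM (by rw [dk3]; exact root_e3) h3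
  rw [dk1] at e1'; rw [dk2] at e2'; rw [dk3] at e3'
  unfold Cfsg.Agent.J2.SixGens.chkN
  rw [rootsB_wq hL, rootsB_wq hM, Bool.true_and, Bool.true_and, decide_eq_true_iff]
  exact ⟨e1', e2', e3'⟩

theorem Wd_eq {L M : List ℕ} (h : fchk L M = true) : Wd L = Wd M := wd_eq (chk_of_fchk h)

theorem Wd_eqN {L M : List ℕ} (h : fchkN L M = true) : Wd L = ⟨Equiv.neg Lam, neg_mem_W⟩ * Wd M :=
  wd_eqN (chkN_of_fchkN h)

end Cfsg.Agent.H4.JT.Fast
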