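import Cfsg.Agent.H1.EightA

/-!
# Elements of order five with a quaternion group in the centralizer

`five_trace` : if `Y ^ 5 = 1`, `Y ≠ 1` acts on a space of dimension six over an algebraically closed field of
characteristic not two or five, `Y` is inverted by an automorphism, and two anticommuting automorphisms commute
with `Y`, then `tr Y ≠ tr Y²`.
-/

set_option autoImplicit false

namespace Cfsg.Agent.H4.JT

open Module

universe u v

variable {K : Type u} [Field K] {V : Type v} [AddCommGroup V] [Module K V]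

/-- eigenspaces -/
def eg (Y : End K V) (z : K) (i : Fin 5) : Submodule K V := LinearMap.ker (Y - z ^ (i : ℕ) • (1 : End K V))

theorem mem_eg {Y : End K V} {z : K} {i : Fin 5} {v : V} : v ∈ eg Y z i ↔ Y v = z ^ (i : ℕ) • v := by
  rw [eg, LinearMap.mem_ker, LinearMap.sub_apply, LinearMap.smul_apply, End.one_apply, sub_eq_zero]

/-- the projections -/
noncomputable def pj5 (Y : End K V) (z : K) (i : Fin 5) : End K V :=
  (5 : K)⁻¹ • ∑ j : Fin 5, z ^ (4 * (i : ℕ) * (j : ℕ)) • Y ^ (j : ℕ)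

variable {Y : End K V} {z : K}

theorem pow_apply_eg {i : Fin 5} {v : V} (h : v ∈ eg Y z i) (n : ℕ) : (Y ^ n) v = z ^ ((i : ℕ) * n) • v := by
  induction n with
  | zero => simp
  | succ n ih =>
    rw [pow_succ', End.mul_apply, ih, map_smul, mem_eg.1 h, smul_smul, ← pow_add]
    congr 2

theorem pj5_mem (hY : Y ^ 5 = 1) (hz : z ^ 5 = 1) (i : Fin 5) (v : V) : pj5 Y z i v ∈ eg Y z i := by
  rw [mem_eg]
  unfold pj5
  have hY4 : ∀ v : V, Y ((Y ^ 4) v) = v := by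
    intro v
    rw [← End.mul_apply, ← pow_succ', hY]; rfl
  have hYn : ∀ (n : ℕ) (v : V), Y ((Y ^ n) v) = (Y ^ (n + 1)) v := by
    intro n v
    rw [pow_succ', End.mul_apply]
  rw [LinearMap.smul_apply, LinearMap.sum_apply, map_smul, map_sum, smul_comm]
  congr 1
  rw [Finset.smul_sum, Fin.sum_univ_five, Fin.sum_univ_five]
  simp only [LinearMap.smul_apply, map_smul, smul_smul, ← pow_add]
  change z ^ (4 * (i : ℕ) * 0) • Y ((Y ^ 0) v) + z ^ (4 * (i : ℕ) * 1) • Y ((Y ^ 1) v) +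
      z ^ (4 * (i : ℕ) * 2) • Y ((Y ^ 2) v) + z ^ (4 * (i : ℕ) * 3) • Y ((Y ^ 3) v) +
      z ^ (4 * (i : ℕ) * 4) • Y ((Y ^ 4) v) =
    z ^ ((i : ℕ) + 4 * (i : ℕ) * 0) • (Y ^ 0) v + z ^ ((i : ℕ) + 4 * (i : ℕ) * 1) • (Y ^ 1) v +
      z ^ ((i : ℕ) + 4 * (i : ℕ) * 2) • (Y ^ 2) v + z ^ ((i : ℕ) + 4 * (i : ℕ) * 3) • (Y ^ 3) v +
      z ^ ((i : ℕ) + 4 * (i : ℕ) * 4) • (Y ^ 4) v
  rw [hY4, hYn, hYn, hYn, hYn]
  have hp : ∀ a b : ℕ, z ^ (a + 5 * b) = z ^ a := by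
    intro a b
    rw [pow_add, pow_mul, hz, one_pow, mul_one]
  have e1 : z ^ ((i : ℕ) + 4 * (i : ℕ) * 1) = 1 := by
    rw [show (i : ℕ) + 4 * (i : ℕ) * 1 = 0 + 5 * (i : ℕ) by ring, hp, pow_zero]
  have e2 : z ^ ((i : ℕ) + 4 * (i : ℕ) * 2) = z ^ (4 * (i : ℕ) * 1) := by
    rw [show (i : ℕ) + 4 * (i : ℕ) * 2 = 4 * (i : ℕ) * 1 + 5 * (i : ℕ) by ring, hp]
  have e3 : z ^ ((i : ℕ) + 4 * (i : ℕ) * 3) = z ^ (4 * (i : ℕ) * 2) := by
    rw [show (i : ℕ) + 4 * (i : ℕ) * 3 = 4 * (i : ℕ) * 2 + 5 * (i : ℕ) by ring, hp]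
  have e4 : z ^ ((i : ℕ) + 4 * (i : ℕ) * 4) = z ^ (4 * (i : ℕ) * 3) := by
    rw [show (i : ℕ) + 4 * (i : ℕ) * 4 = 4 * (i : ℕ) * 3 + 5 * (i : ℕ) by ring, hp]
  have e5 : z ^ ((i : ℕ) + 4 * (i : ℕ) * 0) = z ^ (4 * (i : ℕ) * 4) := by
    rw [show 4 * (i : ℕ) * 4 = ((i : ℕ) + 4 * (i : ℕ) * 0) + 5 * (3 * (i : ℕ)) by ring, hp]
  rw [e1, e2, e3, e4, e5, mul_zero, pow_zero, pow_zero, one_smul]
  change (Y ^ 1) v + z ^ (4 * (i : ℕ) * 1) • (Y ^ 2) v + z ^ (4 * (i : ℕ) * 2) • (Y ^ 3) v +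
      z ^ (4 * (i : ℕ) * 3) • (Y ^ 4) v + z ^ (4 * (i : ℕ) * 4) • v =
    z ^ (4 * (i : ℕ) * 4) • v + (Y ^ 1) v + z ^ (4 * (i : ℕ) * 1) • (Y ^ 2) v +
      z ^ (4 * (i : ℕ) * 2) • (Y ^ 3) v + z ^ (4 * (i : ℕ) * 3) • (Y ^ 4) v
  abel

/-- sums of powers of the root of unity -/
theorem sum_root (hz1 : z ≠ 1) (hz : z ^ 5 = 1) : 1 + z + z ^ 2 + z ^ 3 + z ^ 4 = 0 := by
  have h1 : (z - 1) * (1 + z + z ^ 2 + z ^ 3 + z ^ 4) = 0 := by linear_combination hz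
  exact (mul_eq_zero.1 h1).resolve_left (sub_ne_zero.2 hz1)

theorem sum_mul (hz1 : z ≠ 1) (hz : z ^ 5 = 1) (m : ℕ) :
    ∑ j : Fin 5, z ^ (m * (j : ℕ)) = if m % 5 = 0 then 5 else 0 := by
  have hp : ∀ a b : ℕ, z ^ (a + 5 * b) = z ^ a := by
    intro a b
    rw [pow_add, pow_mul, hz, one_pow, mul_one]
  have hm : ∀ j : ℕ, z ^ (m * j) = z ^ ((m % 5) * j) := by
    intro j
    conv_lhs => rw [← Nat.mod_add_div m 5]
    rw [show (m % 5 + 5 * (m / 5)) * j = (m % 5) * j + 5 * (m / 5 * j) by ring, hp]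
  have h0 := sum_root hz1 hz
  rw [Fin.sum_univ_five]
  simp only [hm]
  change z ^ (m % 5 * 0) + z ^ (m % 5 * 1) + z ^ (m % 5 * 2) + z ^ (m % 5 * 3) + z ^ (m % 5 * 4) = _
  have h5 : m % 5 < 5 := Nat.mod_lt _ (by norm_num)
  interval_cases h : m % 5
  · norm_num
  · rw [if_neg (by norm_num)]
    linear_combination h0
  · rw [if_neg (by norm_num)]
    linear_combination (1 - z + z ^ 2 - z ^ 3 + z ^ 4) * h0
  · rw [if_neg (by norm_num)]
    linear_combination (1 - z + z ^ 3 - z ^ 4 + z ^ 5 - z ^ 7 + z ^ 8) * h0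
  · rw [if_neg (by norm_num)]
    linear_combination (1 - z + z ^ 4 - z ^ 6 + z ^ 8 - z ^ 11 + z ^ 12) * h0

theorem sum_pj5 (h5 : (5 : K) ≠ 0) (hz1 : z ≠ 1) (hz : z ^ 5 = 1) (v : V) : ∑ i : Fin 5, pj5 Y z i v = v := by
  have h1 : ∀ i, pj5 Y z i v = (5 : K)⁻¹ • ∑ j : Fin 5, z ^ (4 * (i : ℕ) * (j : ℕ)) • (Y ^ (j : ℕ)) v := by
    intro i
    unfold pj5
    rw [LinearMap.smul_apply, LinearMap.sum_apply]
    rfl
  simp only [h1]
  rw [← Finset.smul_sum, Finset.sum_comm]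
  have h2 : ∀ j : Fin 5, ∑ i : Fin 5, z ^ (4 * (i : ℕ) * (j : ℕ)) • (Y ^ (j : ℕ)) v =
      (if j = 0 then (5 : K) • v else 0) := by
    intro j
    rw [← Finset.sum_smul]
    have h3 := sum_mul hz1 hz (4 * (j : ℕ))
    have h4 : ∑ i : Fin 5, z ^ (4 * (i : ℕ) * (j : ℕ)) = ∑ i : Fin 5, z ^ (4 * (j : ℕ) * (i : ℕ)) := by
      apply Finset.sum_congr rfl
      intro i _
      congr 1
      ring
    rw [h4, h3]
    fin_cases j <;> simp
  rw [Finset.sum_congr rfl (fun j _ => h2 j), Finset.sum_ite_eq' Finset.univ (0 : Fin 5), if_pos (Finset.mem_univ _),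
    smul_smul, inv_mul_cancel₀ h5, one_smul]

theorem pj5_of_mem (h5 : (5 : K) ≠ 0) (hz1 : z ≠ 1) (hz : z ^ 5 = 1) {i k : Fin 5} {v : V} (hv : v ∈ eg Y z i) :
    pj5 Y z k v = if i = k then v else 0 := by
  unfold pj5
  rw [LinearMap.smul_apply, LinearMap.sum_apply]
  simp only [LinearMap.smul_apply, pow_apply_eg hv, smul_smul, ← pow_add]
  have h1 : ∀ j : Fin 5, z ^ (4 * (k : ℕ) * (j : ℕ) + (i : ℕ) * (j : ℕ)) = z ^ ((4 * (k : ℕ) + (i : ℕ)) * (j : ℕ)) := by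
    intro j
    congr 1
    ring
  simp only [h1]
  rw [← Finset.sum_smul, sum_mul hz1 hz]
  by_cases hik : i = k
  · subst hik
    rw [if_pos (by omega), if_pos rfl, smul_smul, inv_mul_cancel₀ h5, one_smul]
  · rw [if_neg, if_neg hik, zero_smul, smul_zero]
    intro h
    apply hik
    have := i.2
    have := k.2
    apply Fin.ext
    omega

/-- the decomposition -/
theorem finrank_eg [FiniteDimensional K V] (h5 : (5 : K) ≠ 0) (hY : Y ^ 5 = 1) (hz1 : z ≠ 1) (hz : z ^ 5 = 1) :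
    finrank K V = ∑ i : Fin 5, finrank K (eg Y z i) := by
  let f : V →ₗ[K] (∀ i : Fin 5, eg Y z i) := LinearMap.pi fun i => (pj5 Y z i).codRestrict _ (pj5_mem hY hz i)
  have hf : Function.Bijective f := by
    constructor
    · rw [← LinearMap.ker_eq_bot, LinearMap.ker_eq_bot']
      intro v hv
      rw [← sum_pj5 (Y := Y) h5 hz1 hz v]
      apply Finset.sum_eq_zero
      intro i _
      exact congrArg Subtype.val (congrFun hv i)
    · intro w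
      refine ⟨∑ i, (w i : V), ?_⟩
      funext k
      apply Subtype.ext
      change pj5 Y z k (∑ i, (w i : V)) = w k
      rw [map_sum]
      simp only [pj5_of_mem h5 hz1 hz (w _).2]
      rw [Finset.sum_ite_eq' Finset.univ k, if_pos (Finset.mem_univ _)]
  rw [(LinearEquiv.ofBijective f hf).finrank_eq, Module.finrank_pi_fintype]

theorem trace_pj5 [FiniteDimensional K V] (h5 : (5 : K) ≠ 0) (hY : Y ^ 5 = 1) (hz1 : z ≠ 1) (hz : z ^ 5 = 1)
    (i : Fin 5) : LinearMap.trace K V (pj5 Y z i) = (finrank K (eg Y z i) : K) := by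
  apply LinearMap.IsProj.trace
  constructor
  · exact fun v => pj5_mem hY hz i v
  · intro v hv
    rw [pj5_of_mem h5 hz1 hz hv, if_pos rfl]

/-- **the lemma** -/
theorem five_trace [FiniteDimensional K V] (h2 : (2 : K) ≠ 0) (h5 : (5 : K) ≠ 0) (hz1 : z ≠ 1) (hz : z ^ 5 = 1)
    (hn : finrank K V = 6) (hY : Y ^ 5 = 1) (hY1 : Y ≠ 1) {c A B : End K V} (hc : Function.Injective c)
    (hcY : c * Y = Y ^ 4 * c) (hA : Function.Injective A) (hB : Function.Injective B) (hAY : A * Y = Y * A)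
    (hBY : B * Y = Y * B) (hAB : A * B = -(B * A)) {t : K} (h1 : LinearMap.trace K V Y = t)
    (h22 : LinearMap.trace K V (Y ^ 2) = t) (h3 : LinearMap.trace K V (Y ^ 3) = t)
    (h4 : LinearMap.trace K V (Y ^ 4) = t) : False := by
  set m : Fin 5 → ℕ := fun i => finrank K (eg Y z i) with hm
  have hsum : 6 = m 0 + m 1 + m 2 + m 3 + m 4 := by
    rw [← hn, finrank_eg h5 hY hz1 hz, Fin.sum_univ_five]
  -- all even
  have hev : ∀ i, Even (m i) := by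
    intro i
    have key : ∀ C : End K V, C * Y = Y * C → ∀ v ∈ eg Y z i, C v ∈ eg Y z i := by
      intro C hC v hv
      rw [mem_eg] at hv ⊢
      rw [← End.mul_apply, ← hC, End.mul_apply, hv, map_smul]
    exact H1.EightA.even_of_anti h2 (eg Y z i) hA hB (key A hAY) (key B hBY)
      (fun v _ => by
        have := DFunLike.congr_fun hAB v
        exact this)
  -- realness
  have hreal : ∀ i k : Fin 5, ((i : ℕ) + (k : ℕ)) % 5 = 0 → m i ≤ m k := by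
    intro i k hik
    apply H1.EightA.finrank_le_of_map c hc
    intro v hv
    rw [mem_eg]
    -- `Y (c v) = c (Y⁻¹ v)`
    have e1 : c (Y v) = (Y ^ 4) (c v) := DFunLike.congr_fun hcY v
    rw [mem_eg.1 hv, map_smul] at e1
    have e2 : (Y ^ 5) (c v) = c v := by rw [hY]; rfl
    have e3 : Y ((Y ^ 4) (c v)) = c v := by rw [← End.mul_apply, ← pow_succ']; exact e2
    rw [← e1, map_smul] at e3
    calc Y (c v) = z ^ ((k : ℕ) + (i : ℕ)) • Y (c v) := by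
          obtain ⟨n, hn⟩ : 5 ∣ (k : ℕ) + (i : ℕ) := by omega
          rw [hn, pow_mul, hz, one_pow, one_smul]
      _ = z ^ (k : ℕ) • z ^ (i : ℕ) • Y (c v) := by rw [pow_add, mul_smul]
      _ = z ^ (k : ℕ) • c v := by rw [e3]
  have r1 : m 1 = m 4 := le_antisymm (hreal 1 4 (by decide)) (hreal 4 1 (by decide))
  have r2 : m 2 = m 3 := le_antisymm (hreal 2 3 (by decide)) (hreal 3 2 (by decide))
  obtain ⟨a0, ha0⟩ := hev 0
  obtain ⟨a1, ha1⟩ := hev 1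
  obtain ⟨a2, ha2⟩ := hev 2
  -- the traces
  have htr : ∀ i : Fin 5, (m i : K) = (5 : K)⁻¹ * (6 + (z ^ (4 * (i : ℕ) * 1) + z ^ (4 * (i : ℕ) * 2) +
      z ^ (4 * (i : ℕ) * 3) + z ^ (4 * (i : ℕ) * 4)) * t) := by
    intro i
    rw [hm, ← trace_pj5 h5 hY hz1 hz i]
    unfold pj5
    rw [map_smul, map_sum, Fin.sum_univ_five]
    simp only [map_smul]
    change (5 : K)⁻¹ • (z ^ (4 * (i : ℕ) * 0) • LinearMap.trace K V (Y ^ 0) +
      z ^ (4 * (i : ℕ) * 1) • LinearMap.trace K V (Y ^ 1) + z ^ (4 * (i : ℕ) * 2) • LinearMap.trace K V (Y ^ 2) +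
      z ^ (4 * (i : ℕ) * 3) • LinearMap.trace K V (Y ^ 3) + z ^ (4 * (i : ℕ) * 4) • LinearMap.trace K V (Y ^ 4)) = _
    rw [pow_zero Y, pow_one Y, h1, h22, h3, h4, LinearMap.trace_one, hn]
    simp only [smul_eq_mul]
    have e0 : z ^ (4 * (i : ℕ) * 0) = 1 := by rw [mul_zero, pow_zero]
    rw [e0]
    push_cast
    ring
  have q1 := htr 1
  have q2 := htr 2
  have h0 := sum_root hz1 hz
  have hs1 : z ^ (4 * ((1 : Fin 5) : ℕ) * 1) + z ^ (4 * ((1 : Fin 5) : ℕ) * 2) + z ^ (4 * ((1 : Fin 5) : ℕ) * 3) +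
      z ^ (4 * ((1 : Fin 5) : ℕ) * 4) = -1 := by
    change z ^ 4 + z ^ 8 + z ^ 12 + z ^ 16 = -1
    linear_combination h0 + (z ^ 3 + z ^ 7 + z ^ 2 + z ^ 11 + z ^ 6 + z) * hz
  have hs2 : z ^ (4 * ((2 : Fin 5) : ℕ) * 1) + z ^ (4 * ((2 : Fin 5) : ℕ) * 2) + z ^ (4 * ((2 : Fin 5) : ℕ) * 3) +
      z ^ (4 * ((2 : Fin 5) : ℕ) * 4) = -1 := by
    change z ^ 8 + z ^ 16 + z ^ 24 + z ^ 32 = -1
    linear_combination h0 + (z ^ 3 + z ^ 11 + z ^ 6 + z + z ^ 19 + z ^ 14 + z ^ 9 + z ^ 4 + z ^ 27 + z ^ 22 +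
      z ^ 17 + z ^ 12 + z ^ 7 + z ^ 2) * hz
  rw [hs1] at q1
  rw [hs2] at q2
  have hm12 : (m 1 : K) = (m 2 : K) := by rw [q1, q2]
  have h20 : ((2 : ℕ) : K) ≠ 0 := by exact_mod_cast h2
  have hcase : (m 1 = 2 ∧ m 2 = 0) ∨ (m 1 = 0 ∧ m 2 = 2) ∨ m 0 = 6 := by omega
  rcases hcase with ⟨e1, e2⟩ | ⟨e1, e2⟩ | e0
  · rw [e1, e2, Nat.cast_zero] at hm12
    exact h20 hm12
  · rw [e1, e2, Nat.cast_zero] at hm12
    exact h20 hm12.symm
  · apply hY1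
    have h6 : eg Y z 0 = ⊤ := Submodule.eq_top_of_finrank_eq (by rw [hn]; exact e0)
    apply LinearMap.ext
    intro v
    have h7 : v ∈ eg Y z 0 := by rw [h6]; trivial
    rw [mem_eg] at h7
    rw [h7]
    change z ^ 0 • v = v
    rw [pow_zero, one_smul]

end Cfsg.Agent.H4.JT
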