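import Cfsg.Agent.H4.JT.Lin

/-!
# Fixed vectors in dimensions 7 and 8, characteristic two

`Dat` : elements of a group with the relations of suitable elements of `J2`; `Dat.exists_fixed` : a representation of
dimension 7 or 8 over a field of characteristic two containing a primitive third root of unity has a fixed vector or a
fixed functional.
-/

set_option autoImplicit false

namespace Cfsg.Agent.H4.JT

open Module

section bound

variable {k : Type*} [Field k] [CharP k 2] {V : Type*} [AddCommGroup V] [Module k V] [FiniteDimensional k V]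

/-- the averaging operator of an element of order five -/
def e5 (y : Module.End k V) : Module.End k V := 1 + y + y * y + y * (y * y) + y * (y * (y * y))

omit [FiniteDimensional k V] [CharP k 2] in
theorem e5_apply (y : Module.End k V) (v : V) :
    e5 y v = v + y v + y (y v) + y (y (y v)) + y (y (y (y v))) := rfl

omit [FiniteDimensional k V] [CharP k 2] in
theorem e5_mem {y : Module.End k V} (hy : y * (y * (y * (y * y))) = 1) (v : V) : e5 y v ∈ fx y := by
  rw [mem_fx, e5_apply]
  simp only [map_add]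
  rw [show y (y (y (y (y v)))) = v from DFunLike.congr_fun hy v]
  abel

omit [FiniteDimensional k V] in
theorem e5_fix {y : Module.End k V} {v : V} (hv : v ∈ fx y) : e5 y v = v := by
  rw [mem_fx] at hv
  rw [e5_apply]
  simp only [hv]
  have h : v + v + v + v + v = v + (v + v) + (v + v) := by abel
  rw [h, add_self k v, add_zero, add_zero]

omit [FiniteDimensional k V] [CharP k 2] in
theorem e5_comm {y a : Module.End k V} (h : a * y = y * a) (v : V) : a (e5 y v) = e5 y (a v) := by
  have h' : ∀ v, a (y v) = y (a v) := fun v => DFunLike.congr_fun h v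
  simp only [e5_apply, map_add, h']

/-- three subgroups of order five of a group of order 25 -/
theorem fix_bound {y1 y2 y3 : Module.End k V} (h3 : y3 * (y3 * (y3 * (y3 * y3))) = 1) (c13 : y1 * y3 = y3 * y1)
    (c23 : y2 * y3 = y3 * y2) {C : Submodule k V} (h12 : fx y1 ⊓ fx y2 ≤ C) (h13 : fx y1 ⊓ fx y3 ≤ C)
    (h23 : fx y2 ⊓ fx y3 ≤ C) :
    finrank k (fx y1) + finrank k (fx y2) + finrank k (fx y3) ≤ finrank k V + 2 * finrank k C := by
  have e1 := Submodule.finrank_sup_add_finrank_inf_eq (fx y1) (fx y2)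
  have e2 := Submodule.finrank_sup_add_finrank_inf_eq (fx y1 ⊔ fx y2) (fx y3)
  have e3 := Submodule.finrank_mono h12
  have e4 : (fx y1 ⊔ fx y2) ⊓ fx y3 ≤ C := by
    rintro v ⟨hv, hv3⟩
    obtain ⟨v1, hv1, v2, hv2, rfl⟩ := Submodule.mem_sup.1 hv
    have h5 := e5_fix hv3
    rw [← h5, map_add]
    apply C.add_mem
    · apply h13
      refine ⟨?_, e5_mem h3 v1⟩
      change e5 y3 v1 ∈ fx y1
      rw [mem_fx, e5_comm c13, mem_fx.1 hv1]
    · apply h23
      refine ⟨?_, e5_mem h3 v2⟩
      change e5 y3 v2 ∈ fx y2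
      rw [mem_fx, e5_comm c23, mem_fx.1 hv2]
  have e5 := Submodule.finrank_mono e4
  have e6 := Submodule.finrank_le (fx y1 ⊔ fx y2 ⊔ fx y3)
  omega

end bound

theorem p5 {M : Type*} [Monoid M] (a : M) : a ^ 5 = a * (a * (a * (a * a))) := by
  simp only [pow_succ', pow_zero, mul_one]

/-- relations of some elements of `J2` -/
structure Dat {G : Type*} [Group G] (x y t0 r c1 c2 : G) (g : Fin 6 → G) : Prop where
  x3 : x * (x * x) = 1
  y5 : y * (y * (y * (y * y))) = 1
  xy : x * y = y * x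
  t2 : t0 * t0 = 1
  ty : t0 * y = y * t0
  k5 : t0 * x * (t0 * x * (t0 * x * (t0 * x * (t0 * x)))) = 1
  rx : r * x = x * x * r
  ry : r * y = y * r
  gx : ∀ i, g i * x = x * g i
  g4 : ∀ i, g i * g i * (g i * g i) = 1
  ey : y = g 0 * g 0 * (g 1 * g 1)
  ex : x = g 2 * g 2 * (g 3 * g 3 * (g 4 * g 4 * (g 5 * g 5)))
  hc1 : c1 * y = y ^ 3 * (t0 * x) ^ 2 * c1
  hc2 : c2 * y = y ^ 2 * (t0 * x) ^ 2 * c2
  gen : Subgroup.closure ({t0} ∪ Set.range fun i => g i * g i) = ⊤

variable {G : Type*} [Group G] {x y t0 r c1 c2 : G} {g : Fin 6 → G}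

variable {k : Type*} [Field k] [CharP k 2] {V : Type*} [AddCommGroup V] [Module k V] [FiniteDimensional k V]

omit [CharP k 2] [FiniteDimensional k V] in
theorem rho_inj (ρ : G →* Module.End k V) (a : G) : Function.Injective (ρ a) := by
  intro u v h
  have h1 : ρ a⁻¹ (ρ a u) = ρ a⁻¹ (ρ a v) := by rw [h]
  rw [← Module.End.mul_apply, ← Module.End.mul_apply, ← map_mul, inv_mul_cancel, map_one] at h1
  exact h1

omit [CharP k 2] in
/-- conjugate elements -/
theorem finrank_conj (ρ : G →* Module.End k V) {a b c : G} (h : c * a = b * c) :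
    finrank k (fx (ρ a)) = finrank k (fx (ρ b)) := by
  have key : ∀ a b c : G, c * a = b * c → finrank k (fx (ρ a)) ≤ finrank k (fx (ρ b)) := by
    intro a b c h
    let γ : fx (ρ a) →ₗ[k] fx (ρ b) := ((ρ c).comp (fx (ρ a)).subtype).codRestrict _ (fun u => by
      rw [mem_fx]
      change ρ b (ρ c u) = ρ c u
      rw [← Module.End.mul_apply, ← map_mul, ← h, map_mul, Module.End.mul_apply, mem_fx.1 u.2])
    apply LinearMap.finrank_le_finrank_of_injective (f := γ)
    rw [← LinearMap.ker_eq_bot, LinearMap.ker_eq_bot']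
    intro u hu
    apply Subtype.ext
    apply rho_inj ρ c
    rw [Submodule.coe_zero, map_zero]
    exact congrArg Subtype.val hu
  apply le_antisymm (key a b c h)
  apply key b a c⁻¹
  calc c⁻¹ * b = c⁻¹ * (b * c) * c⁻¹ := by group
    _ = c⁻¹ * (c * a) * c⁻¹ := by rw [h]
    _ = a * c⁻¹ := by group

omit [CharP k 2] [FiniteDimensional k V] in
theorem fx_inv {a b : G} (ρ : G →* Module.End k V) (h : a * b = b * a) {v : V} (hv : v ∈ fx (ρ b)) :
    ρ a v ∈ fx (ρ b) := by
  rw [mem_fx] at hv ⊢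
  rw [← Module.End.mul_apply, ← map_mul, ← h, map_mul, Module.End.mul_apply, hv]

omit [CharP k 2] [FiniteDimensional k V] in
theorem fx_pow (ρ : G →* Module.End k V) {a : G} {v : V} (hv : v ∈ fx (ρ a)) (n : ℕ) : v ∈ fx (ρ (a ^ n)) := by
  induction n with
  | zero => rw [pow_zero, map_one, mem_fx]; rfl
  | succ n ih =>
    rw [mem_fx] at ih hv ⊢
    rw [pow_succ, map_mul, Module.End.mul_apply, hv, ih]

omit [CharP k 2] [FiniteDimensional k V] in
theorem fx_mul (ρ : G →* Module.End k V) {a b : G} {v : V} (ha : v ∈ fx (ρ a)) (hb : v ∈ fx (ρ b)) :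
    v ∈ fx (ρ (a * b)) := by
  rw [mem_fx] at ha hb ⊢
  rw [map_mul, Module.End.mul_apply, hb, ha]

omit [CharP k 2] [FiniteDimensional k V] in
theorem fx_of_mul (ρ : G →* Module.End k V) {a b : G} {v : V} (ha : v ∈ fx (ρ a)) (hab : v ∈ fx (ρ (a * b))) :
    v ∈ fx (ρ b) := by
  rw [mem_fx] at ha hab ⊢
  apply rho_inj ρ a
  rw [ha, ← Module.End.mul_apply, ← map_mul, hab]

/-- **fixed vectors or functionals** -/
theorem Dat.exists_fixed (D : Dat x y t0 r c1 c2 g) {w : k} (hw : w ^ 2 + w + 1 = 0) (ρ : G →* Module.End k V)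
    (hn : finrank k V = 7 ∨ finrank k V = 8) (hx1 : ρ x ≠ 1) :
    (∃ v : V, v ≠ 0 ∧ ∀ a : G, ρ a v = v) ∨ ∃ φ : V →ₗ[k] k, φ ≠ 0 ∧ ∀ (a : G) (v : V), φ (ρ a v) = φ v := by
  have hx3 : ρ x * (ρ x * ρ x) = 1 := by rw [← map_mul, ← map_mul, D.x3, map_one]
  have hy5 : ρ y * (ρ y * (ρ y * (ρ y * ρ y))) = 1 := by
    rw [← map_mul, ← map_mul, ← map_mul, ← map_mul, D.y5, map_one]
  -- the fixed space of `x`
  have hf : finrank k (fx (ρ x)) + 6 = finrank k V := by
    have h1 := even3 hw hx3 (rho_inj ρ r) (by rw [← map_mul, D.rx, map_mul, map_mul])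
    have h2 := three_dvd hw (x := ρ x) [ρ (g 2 * g 2), ρ (g 3 * g 3), ρ (g 4 * g 4), ρ (g 5 * g 5)] (by
      have key : ∀ i, ρ (g i * g i) * ρ (g i * g i) = 1 ∧ ρ (g i * g i) * ρ x = ρ x * ρ (g i * g i) := by
        intro i
        constructor
        · rw [← map_mul, D.g4, map_one]
        · rw [← map_mul, ← map_mul, mul_assoc, D.gx, ← mul_assoc, D.gx, mul_assoc]
      intro a ha
      simp only [List.mem_cons, List.not_mem_nil, or_false] at ha
      rcases ha with rfl | rfl | rfl | rfl <;> exact key _) (by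
      rw [List.prod_cons, List.prod_cons, List.prod_cons, List.prod_cons, List.prod_nil, mul_one, ← map_mul, ← map_mul,
        ← map_mul]
      exact congrArg ρ D.ex)
    have h3 : finrank k (LinearMap.ker (ρ x - w • (1 : Module.End k V))) ≠ 0 := by
      intro h0
      apply hx1
      have h4 : fx (ρ x) = ⊤ := Submodule.eq_top_of_finrank_eq (by omega)
      apply LinearMap.ext
      intro v
      have : v ∈ fx (ρ x) := by rw [h4]; trivial
      exact mem_fx.1 this
    obtain ⟨m, hm⟩ := h2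
    omega
  -- the squares act trivially
  have hg : ∀ (i : Fin 6), ∀ v ∈ fx (ρ x), v ∈ fx (ρ (g i * g i)) := by
    intro i v hv
    let g' : Module.End k (fx (ρ x)) := (ρ (g i)).restrict (fun u hu => fx_inv ρ (D.gx i) hu)
    have h1 : g' * g' = 1 := by
      apply sq_fix (by omega)
      apply LinearMap.ext
      intro u
      apply Subtype.ext
      change ρ (g i) (ρ (g i) (ρ (g i) (ρ (g i) u))) = u
      rw [← Module.End.mul_apply, ← Module.End.mul_apply, ← Module.End.mul_apply, ← map_mul, ← map_mul, ← map_mul]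
      have : g i * g i * g i * g i = 1 := by rw [← D.g4 i]; group
      rw [this, map_one]; rfl
    have h2 := DFunLike.congr_fun h1 ⟨v, hv⟩
    rw [mem_fx, map_mul]
    exact congrArg Subtype.val h2
  -- `y` acts trivially on the fixed space of `x`
  have hxy : fx (ρ x) ≤ fx (ρ y) := by
    intro v hv
    rw [D.ey]
    exact fx_mul ρ (hg 0 v hv) (hg 1 v hv)
  -- restriction to the fixed space of `y`
  set U := fx (ρ y) with hU
  have hxU : ∀ u ∈ U, ρ x u ∈ U := fun u hu => fx_inv ρ D.xy hu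
  have htU : ∀ u ∈ U, ρ t0 u ∈ U := fun u hu => fx_inv ρ D.ty hu
  have hrU : ∀ u ∈ U, ρ r u ∈ U := fun u hu => fx_inv ρ D.ry hu
  let x' : Module.End k U := (ρ x).restrict hxU
  let t' : Module.End k U := (ρ t0).restrict htU
  let r' : Module.End k U := (ρ r).restrict hrU
  have hfx' : finrank k (fx x') = finrank k (fx (ρ x)) := by
    let γ : fx x' ≃ₗ[k] fx (ρ x) :=
      { toFun := fun u => ⟨u.1.1, by
          have := mem_fx.1 u.2
          rw [mem_fx]
          exact congrArg Subtype.val this⟩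
        invFun := fun v => ⟨⟨v.1, hxy v.2⟩, by
          rw [mem_fx]
          apply Subtype.ext
          exact mem_fx.1 v.2⟩
        left_inv := fun u => rfl
        right_inv := fun v => rfl
        map_add' := fun u v => rfl
        map_smul' := fun c u => rfl }
    exact γ.finrank_eq
  have hpar : finrank k U = finrank k (fx (ρ x)) + 2 * finrank k (LinearMap.ker (x' - w • (1 : Module.End k U))) := by
    rw [← hfx']
    apply even3 hw (r := r')
    · apply LinearMap.ext
      intro u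
      apply Subtype.ext
      exact DFunLike.congr_fun hx3 (u : V)
    · intro u v h
      apply Subtype.ext
      apply rho_inj ρ r
      exact congrArg Subtype.val h
    · apply LinearMap.ext
      intro u
      apply Subtype.ext
      change ρ r (ρ x u) = ρ x (ρ x (ρ r u))
      rw [← Module.End.mul_apply, ← Module.End.mul_apply, ← Module.End.mul_apply, ← map_mul, ← map_mul, ← map_mul,
        D.rx]
  -- the fixed space of `⟨y, k⟩`
  set C := fx (ρ y) ⊓ fx (ρ (t0 * x)) with hC
  have hyk : y * (t0 * x) = t0 * x * y := by rw [← mul_assoc, ← D.ty, mul_assoc, ← D.xy, mul_assoc]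
  have hk5 : (t0 * x) ^ 5 = 1 := by
    rw [p5, D.k5]
  have hy5' : y ^ 5 = 1 := by rw [p5, D.y5]
  have hcomm : Commute y (t0 * x) := hyk
  have hbd : 3 * finrank k U ≤ finrank k V + 2 * finrank k C := by
    have e1 := finrank_conj ρ D.hc1
    have e2 := finrank_conj ρ D.hc2
    have c1' : Commute y (y ^ 3 * (t0 * x) ^ 2) := ((Commute.refl y).pow_right 3).mul_right (hcomm.pow_right 2)
    have c2' : Commute y (y ^ 2 * (t0 * x) ^ 2) := ((Commute.refl y).pow_right 2).mul_right (hcomm.pow_right 2)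
    have c3' : Commute (t0 * x) (y ^ 2 * (t0 * x) ^ 2) :=
      (hcomm.symm.pow_right 2).mul_right ((Commute.refl (t0 * x)).pow_right 2)
    have c4' : Commute (y ^ 3 * (t0 * x) ^ 2) (y ^ 2 * (t0 * x) ^ 2) := (c2'.pow_left 3).mul_left (c3'.pow_left 2)
    -- from `k ^ 2` to `k`
    have hk2 : ∀ v : V, v ∈ fx (ρ ((t0 * x) ^ 2)) → v ∈ fx (ρ (t0 * x)) := by
      intro v hv
      have := fx_pow ρ hv 3
      rwa [← pow_mul, show 2 * 3 = 5 + 1 by norm_num, pow_succ, hk5, one_mul] at this
    have h12 : fx (ρ y) ⊓ fx (ρ (y ^ 3 * (t0 * x) ^ 2)) ≤ C := by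
      rintro v ⟨h1, h2⟩
      exact ⟨h1, hk2 v (fx_of_mul ρ (fx_pow ρ h1 3) h2)⟩
    have h13 : fx (ρ y) ⊓ fx (ρ (y ^ 2 * (t0 * x) ^ 2)) ≤ C := by
      rintro v ⟨h1, h2⟩
      exact ⟨h1, hk2 v (fx_of_mul ρ (fx_pow ρ h1 2) h2)⟩
    have h23 : fx (ρ (y ^ 3 * (t0 * x) ^ 2)) ⊓ fx (ρ (y ^ 2 * (t0 * x) ^ 2)) ≤ C := by
      rintro v ⟨h1, h2⟩
      have h3 : v ∈ fx (ρ y) := by
        have e : y ^ 2 * (t0 * x) ^ 2 * y = y ^ 3 * (t0 * x) ^ 2 := by
          rw [mul_assoc, ← (hcomm.pow_right 2).eq, ← mul_assoc, ← pow_succ]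
        exact fx_of_mul ρ h2 (by rw [e]; exact h1)
      exact ⟨h3, hk2 v (fx_of_mul ρ (fx_pow ρ h3 2) h2)⟩
    have h5 : ρ (y ^ 2 * (t0 * x) ^ 2) * (ρ (y ^ 2 * (t0 * x) ^ 2) * (ρ (y ^ 2 * (t0 * x) ^ 2) *
        (ρ (y ^ 2 * (t0 * x) ^ 2) * ρ (y ^ 2 * (t0 * x) ^ 2)))) = 1 := by
      rw [← map_mul, ← map_mul, ← map_mul, ← map_mul]
      have : y ^ 2 * (t0 * x) ^ 2 * (y ^ 2 * (t0 * x) ^ 2 * (y ^ 2 * (t0 * x) ^ 2 *
          (y ^ 2 * (t0 * x) ^ 2 * (y ^ 2 * (t0 * x) ^ 2)))) = (y ^ 2 * (t0 * x) ^ 2) ^ 5 := (p5 _).symm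
      rw [this, ((hcomm.pow_left 2).pow_right 2).mul_pow, ← pow_mul, ← pow_mul, mul_comm 2 5, pow_mul, pow_mul, hy5',
        hk5, one_pow, mul_one, map_one]
    have h6 := fix_bound (y1 := ρ y) (y2 := ρ (y ^ 3 * (t0 * x) ^ 2)) (y3 := ρ (y ^ 2 * (t0 * x) ^ 2)) h5
      (by rw [← map_mul, ← map_mul, c2'.eq]) (by rw [← map_mul, ← map_mul, c4'.eq]) h12 h13 h23
    rw [← e1, ← e2] at h6
    have h7 : finrank k U = finrank k (fx (ρ y)) := rfl
    omega
  have hfk : finrank k (fx (t' * x')) = finrank k C := by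
    let γ : fx (t' * x') ≃ₗ[k] C :=
      { toFun := fun u => ⟨u.1.1, u.1.2, by
          have := mem_fx.1 u.2
          change (u.1.1 : V) ∈ fx (ρ (t0 * x))
          rw [mem_fx, map_mul]
          exact congrArg Subtype.val this⟩
        invFun := fun v => ⟨⟨v.1, v.2.1⟩, by
          rw [mem_fx]
          apply Subtype.ext
          have := mem_fx.1 v.2.2
          rw [map_mul] at this
          exact this⟩
        left_inv := fun u => rfl
        right_inv := fun v => rfl
        map_add' := fun u v => rfl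
        map_smul' := fun c u => rfl }
    exact γ.finrank_eq
  have ht' : t' * t' = 1 := by
    apply LinearMap.ext
    intro u
    apply Subtype.ext
    change ρ t0 (ρ t0 u) = u
    rw [← Module.End.mul_apply, ← map_mul, D.t2, map_one]
    rfl
  -- a vector of `U` fixed by `t0` and `x` is fixed by everything
  have hfin1 : ∀ u : U, t' u = u → x' u = u → ∀ a : G, ρ a u = u := by
    intro u h1 h2 a
    have hx : (u : V) ∈ fx (ρ x) := mem_fx.2 (congrArg Subtype.val h2)
    have ha : a ∈ Subgroup.closure ({t0} ∪ Set.range fun i => g i * g i) := by rw [D.gen]; trivial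
    induction ha using Subgroup.closure_induction with
    | mem a ha =>
      rcases ha with ha | ⟨i, rfl⟩
      · rw [Set.mem_singleton_iff.1 ha]
        exact congrArg Subtype.val h1
      · exact mem_fx.1 (hg i _ hx)
    | one => rw [map_one]; rfl
    | mul a b _ _ ha hb => rw [map_mul, Module.End.mul_apply, hb, ha]
    | inv a _ ha =>
      apply rho_inj ρ a
      rw [← Module.End.mul_apply, ← map_mul, mul_inv_cancel, map_one, ha]
      rfl
  have rx := finrank_range_add x'
  have rt := rank_inv ht'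
  have rk := finrank_range_add (t' * x')
  by_cases hcase : finrank k U = finrank k (fx (ρ x))
  · -- `x` and `t0` act trivially on `U`
    left
    have hx1 : ∀ u : U, x' u = u := by
      have h1 : fx x' = ⊤ := Submodule.eq_top_of_finrank_eq (by rw [hfx', hcase])
      intro u
      have : u ∈ fx x' := by rw [h1]; trivial
      exact mem_fx.1 this
    have ht1 : ∀ u : U, t' u = u := by
      intro u
      have h1 : ∀ v : U, ρ (t0 * x) v = t' v := by
        intro v
        rw [map_mul, Module.End.mul_apply]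
        have h2 : ρ x v = v := congrArg Subtype.val (hx1 v)
        rw [h2]
        rfl
      have h2 : ∀ v : U, t' (t' v) = v := fun v => DFunLike.congr_fun ht' v
      have h3 : ρ (t0 * x * (t0 * x * (t0 * x * (t0 * x * (t0 * x))))) u = (t' (t' (t' (t' (t' u)))) : V) := by
        rw [map_mul, map_mul ρ _ (t0 * x * (t0 * x * (t0 * x))), map_mul ρ _ (t0 * x * (t0 * x)),
          map_mul ρ _ (t0 * x), Module.End.mul_apply, Module.End.mul_apply, Module.End.mul_apply,
          Module.End.mul_apply, h1, h1, h1, h1, h1]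
      rw [D.k5, map_one, h2, h2] at h3
      exact Subtype.ext h3.symm
    have hpos : 0 < finrank k U := by omega
    obtain ⟨u, hu⟩ := (Module.finrank_pos_iff_exists_ne_zero (R := k)).1 hpos
    exact ⟨u, fun h => hu (Subtype.ext h), hfin1 u (ht1 u) (hx1 u)⟩
  · have hsc := scott t' x' (by omega)
    rcases hsc with ⟨u, hu, h1, h2⟩ | hne
    · left
      exact ⟨u, fun h => hu (Subtype.ext h), hfin1 u h1 h2⟩
    · right
      -- the functional
      set R := LinearMap.range (t' - 1) ⊔ LinearMap.range (x' - 1) with hR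
      obtain ⟨ψ, hψ, hψR⟩ : ∃ ψ : U →ₗ[k] k, ψ ≠ 0 ∧ R ≤ LinearMap.ker ψ :=
        Submodule.exists_le_ker_of_lt_top R (lt_top_iff_ne_top.2 hne)
      let φ : V →ₗ[k] k := ψ.comp ((e5 (ρ y)).codRestrict U (fun v => e5_mem hy5 v))
      have hφU : ∀ u : U, φ u = ψ u := by
        intro u
        change ψ ⟨e5 (ρ y) u, _⟩ = ψ u
        congr 1
        exact Subtype.ext (e5_fix u.2)
      have hφt : ∀ v, φ (ρ t0 v) = φ v := by
        intro v
        change ψ ⟨e5 (ρ y) (ρ t0 v), _⟩ = ψ ⟨e5 (ρ y) v, _⟩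
        have h1 : (⟨e5 (ρ y) (ρ t0 v), e5_mem hy5 _⟩ : U) = t' ⟨e5 (ρ y) v, e5_mem hy5 v⟩ := by
          apply Subtype.ext
          change e5 (ρ y) (ρ t0 v) = ρ t0 (e5 (ρ y) v)
          rw [e5_comm]
          rw [← map_mul, ← map_mul, D.ty]
        rw [h1, ← sub_eq_zero, ← map_sub]
        have h2 : t' ⟨e5 (ρ y) v, e5_mem hy5 v⟩ - ⟨e5 (ρ y) v, e5_mem hy5 v⟩ ∈ R :=
          Submodule.mem_sup_left ⟨⟨e5 (ρ y) v, e5_mem hy5 v⟩, rfl⟩
        exact hψR h2
      have hφx : ∀ v, φ (ρ x v) = φ v := by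
        intro v
        change ψ ⟨e5 (ρ y) (ρ x v), _⟩ = ψ ⟨e5 (ρ y) v, _⟩
        have h1 : (⟨e5 (ρ y) (ρ x v), e5_mem hy5 _⟩ : U) = x' ⟨e5 (ρ y) v, e5_mem hy5 v⟩ := by
          apply Subtype.ext
          change e5 (ρ y) (ρ x v) = ρ x (e5 (ρ y) v)
          rw [e5_comm]
          rw [← map_mul, ← map_mul, D.xy]
        rw [h1, ← sub_eq_zero, ← map_sub]
        have h2 : x' ⟨e5 (ρ y) v, e5_mem hy5 v⟩ - ⟨e5 (ρ y) v, e5_mem hy5 v⟩ ∈ R :=
          Submodule.mem_sup_right ⟨⟨e5 (ρ y) v, e5_mem hy5 v⟩, rfl⟩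
        exact hψR h2
      -- the average over `⟨x⟩`
      have hφg : ∀ i v, φ (ρ (g i * g i) v) = φ v := by
        intro i v
        have h3 : ∀ v, φ (v + ρ x v + ρ x (ρ x v)) = φ v := by
          intro v
          rw [map_add, map_add, hφx, hφx, hφx, add_assoc, add_self k, add_zero]
        have h4 : v + ρ x v + ρ x (ρ x v) ∈ fx (ρ x) := by
          rw [mem_fx, map_add, map_add]
          rw [show ρ x (ρ x (ρ x v)) = v from DFunLike.congr_fun hx3 v]
          abel
        have h5 := mem_fx.1 (hg i _ h4)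
        rw [← h3 (ρ (g i * g i) v)]
        have hc : g i * g i * x = x * (g i * g i) := by rw [mul_assoc, D.gx, ← mul_assoc, D.gx, mul_assoc]
        have h6 : ∀ v, ρ x (ρ (g i * g i) v) = ρ (g i * g i) (ρ x v) := by
          intro v
          rw [← Module.End.mul_apply, ← Module.End.mul_apply, ← map_mul, ← map_mul, hc]
        rw [h6, h6, ← map_add, ← map_add, h5, h3]
      refine ⟨φ, ?_, ?_⟩
      · rintro h0
        apply hψ
        apply LinearMap.ext
        intro u
        rw [← hφU u, h0]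
        rfl
      · intro a
        have ha : a ∈ Subgroup.closure ({t0} ∪ Set.range fun i => g i * g i) := by rw [D.gen]; trivial
        induction ha using Subgroup.closure_induction with
        | mem a ha =>
          rcases ha with ha | ⟨i, rfl⟩
          · rw [Set.mem_singleton_iff.1 ha]
            exact hφt
          · exact hφg i
        | one => intro v; rw [map_one]; rfl
        | mul a b _ _ ha hb => intro v; rw [map_mul, Module.End.mul_apply, ha, hb]
        | inv a _ ha =>
          intro v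
          rw [← ha (ρ a⁻¹ v), ← Module.End.mul_apply, ← map_mul, mul_inv_cancel, map_one]
          rfl

end Cfsg.Agent.H4.JT
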