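import Mathlib

/-!
# Linear algebra for small representations in characteristic two

* `scott` : Scott's lemma for two endomorphisms;
* `split3` : eigenspaces of an element of order 3, `even3` : when it is inverted;
* `three_dvd` : the determinant argument;
* `sq_fix` : squares of elements of order 4 on spaces of dimension at most 2;
* `fix_bound` : fixed spaces of three subgroups of order 5 of a group of order 25.
-/

set_option autoImplicit false

namespace Cfsg.Agent.H4.JT

open Module

variable {k : Type*} [Field k] {U : Type*} [AddCommGroup U] [Module k U] [FiniteDimensional k U]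

/-- fixed vectors -/
def fx (a : Module.End k U) : Submodule k U := LinearMap.ker (a - 1)

omit [FiniteDimensional k U] in
theorem mem_fx {a : Module.End k U} {u : U} : u ∈ fx a ↔ a u = u := by
  rw [fx, LinearMap.mem_ker, LinearMap.sub_apply, Module.End.one_apply, sub_eq_zero]

theorem finrank_range_add (a : Module.End k U) :
    finrank k (LinearMap.range (a - 1)) + finrank k (fx a) = finrank k U :=
  LinearMap.finrank_range_add_finrank_ker (a - 1)

/-- **Scott's lemma** -/
theorem scott (a b : Module.End k U)
    (h : finrank k (LinearMap.range (a - 1)) + finrank k (LinearMap.range (b - 1)) +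
      finrank k (LinearMap.range (a * b - 1)) < 2 * finrank k U) :
    (∃ u : U, u ≠ 0 ∧ a u = u ∧ b u = u) ∨ LinearMap.range (a - 1) ⊔ LinearMap.range (b - 1) ≠ ⊤ := by
  by_contra hcon
  push Not at hcon
  obtain ⟨h1, h2⟩ := hcon
  let σ : (LinearMap.range (a - 1) × LinearMap.range (b - 1)) →ₗ[k] U :=
    (LinearMap.range (a - 1)).subtype.coprod (LinearMap.range (b - 1)).subtype
  have hσ : LinearMap.range σ = ⊤ := by
    rw [LinearMap.range_coprod, Submodule.range_subtype, Submodule.range_subtype, h2]
  have hk : finrank k (LinearMap.ker σ) + finrank k U =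
      finrank k (LinearMap.range (a - 1)) + finrank k (LinearMap.range (b - 1)) := by
    have := LinearMap.finrank_range_add_finrank_ker σ
    rw [hσ, finrank_top, Module.finrank_prod] at this
    omega
  let β : U →ₗ[k] (LinearMap.range (a - 1) × LinearMap.range (b - 1)) :=
    ((a - 1).rangeRestrict.comp b).prod (b - 1).rangeRestrict
  have hβ : ∀ u, β u = 0 → u = 0 := by
    intro u hu
    by_contra hu0
    have e1 : ((a - 1).rangeRestrict (b u)) = 0 := congrArg Prod.fst hu
    have e2 : ((b - 1).rangeRestrict u) = 0 := congrArg Prod.snd hu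
    have e3 : (a - 1) (b u) = 0 := congrArg Subtype.val e1
    have e4 : (b - 1) u = 0 := congrArg Subtype.val e2
    rw [LinearMap.sub_apply, Module.End.one_apply, sub_eq_zero] at e3 e4
    rw [e4] at e3
    exact h1 u hu0 e3 e4
  have hσβ : ∀ u, σ (β u) = (a * b - 1) u := by
    intro u
    change (a - 1) (b u) + (b - 1) u = (a * b - 1) u
    rw [LinearMap.sub_apply, LinearMap.sub_apply, LinearMap.sub_apply, Module.End.mul_apply, Module.End.one_apply,
      Module.End.one_apply]
    abel
  have h3 : finrank k (fx (a * b)) ≤ finrank k (LinearMap.ker σ) := by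
    let γ : fx (a * b) →ₗ[k] LinearMap.ker σ := (β.comp (fx (a * b)).subtype).codRestrict _ (fun u => by
      rw [LinearMap.mem_ker]
      change σ (β u) = 0
      rw [hσβ]
      exact u.2)
    apply LinearMap.finrank_le_finrank_of_injective (f := γ)
    rw [← LinearMap.ker_eq_bot, LinearMap.ker_eq_bot']
    intro u hu
    apply Subtype.ext
    apply hβ
    exact congrArg Subtype.val hu
  have h4 := finrank_range_add (a * b)
  omega

section char2

variable [CharP k 2]

theorem add_self (k : Type*) [Field k] [CharP k 2] {U : Type*} [AddCommGroup U] [Module k U] (u : U) :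
    u + u = 0 := by
  have h2 : (2 : k) = 0 := CharP.cast_eq_zero k 2
  rw [← two_smul k u, h2, zero_smul]

omit [FiniteDimensional k U] [CharP k 2] in
/-- the rank of an involution -/
theorem rank_inv_aux [FiniteDimensional k U] {a : Module.End k U} (h : (a - 1) * (a - 1) = 0) :
    2 * finrank k (LinearMap.range (a - 1)) ≤ finrank k U := by
  have h1 : LinearMap.range (a - 1) ≤ fx a := by
    rintro _ ⟨u, rfl⟩
    rw [fx, LinearMap.mem_ker]
    exact DFunLike.congr_fun h u
  have h2 := Submodule.finrank_mono h1
  have h3 := finrank_range_add a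
  omega

theorem rank_inv {a : Module.End k U} (h : a * a = 1) : 2 * finrank k (LinearMap.range (a - 1)) ≤ finrank k U := by
  apply rank_inv_aux
  have : (a - 1) * (a - 1) = a * a - (a + a) + 1 := by noncomm_ring
  rw [this, h]
  apply LinearMap.ext
  intro u
  simp only [LinearMap.add_apply, LinearMap.sub_apply, Module.End.one_apply, LinearMap.zero_apply]
  rw [add_self k (a u), sub_zero, add_self k]

variable {w : k}

/-- the projections for an element of order three -/
theorem split3 (hw : w ^ 2 + w + 1 = 0) {x : Module.End k U} (hx : x * (x * x) = 1) :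
    finrank k U = finrank k (fx x) + (finrank k (LinearMap.ker (x - w • (1 : Module.End k U))) +
      finrank k (LinearMap.ker (x - w ^ 2 • (1 : Module.End k U)))) := by
  have h2 : (2 : k) = 0 := CharP.cast_eq_zero k 2
  have hx3 : ∀ u, x (x (x u)) = u := fun u => DFunLike.congr_fun hx u
  have hA : ∀ u, u ∈ LinearMap.ker (x - w • (1 : Module.End k U)) ↔ x u = w • u := by
    intro u
    rw [LinearMap.mem_ker, LinearMap.sub_apply, LinearMap.smul_apply, Module.End.one_apply, sub_eq_zero]
  have hB : ∀ u, u ∈ LinearMap.ker (x - w ^ 2 • (1 : Module.End k U)) ↔ x u = w ^ 2 • u := by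
    intro u
    rw [LinearMap.mem_ker, LinearMap.sub_apply, LinearMap.smul_apply, Module.End.one_apply, sub_eq_zero]
  let f : (fx x × (LinearMap.ker (x - w • (1 : Module.End k U)) × LinearMap.ker (x - w ^ 2 • (1 : Module.End k U))))
      →ₗ[k] U := (fx x).subtype.coprod ((LinearMap.ker (x - w • (1 : Module.End k U))).subtype.coprod
        (LinearMap.ker (x - w ^ 2 • (1 : Module.End k U))).subtype)
  have hf : Function.Bijective f := by
    constructor
    · rw [← LinearMap.ker_eq_bot, LinearMap.ker_eq_bot']
      rintro ⟨⟨p, hp⟩, ⟨q, hq⟩, ⟨r, hr⟩⟩ h0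
      have h1 : p + (q + r) = 0 := h0
      rw [mem_fx] at hp
      rw [hA] at hq
      rw [hB] at hr
      have h3 : p + (w • q + w ^ 2 • r) = 0 := by
        have := congrArg x h1
        rwa [map_add, map_add, hp, hq, hr, map_zero] at this
      have h4 : p + (w ^ 2 • q + w ^ 4 • r) = 0 := by
        have := congrArg x h3
        rw [map_add, map_add, map_smul, map_smul, hp, hq, hr, map_zero, smul_smul, smul_smul] at this
        rw [← this]; congr 2
        · congr 1; ring
        · congr 1; ring
      -- sum of the three equations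
      have hw4 : w ^ 4 = w := by linear_combination (w ^ 2 - w) * hw
      have hp0 : p = 0 := by
        have e1 : p + (q + r) + (p + (w • q + w ^ 2 • r)) + (p + (w ^ 2 • q + w ^ 4 • r)) = 0 := by
          rw [h1, h3, h4]; simp
        have e2 : p + (q + r) + (p + (w • q + w ^ 2 • r)) + (p + (w ^ 2 • q + w ^ 4 • r)) =
            (3 : k) • p + (w ^ 2 + w + 1) • q + (w ^ 2 + w + 1) • r := by
          rw [hw4]
          module
        rw [e2, hw, zero_smul, zero_smul, add_zero, add_zero] at e1
        have h33 : (3 : k) = 1 := by linear_combination h2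
        rwa [h33, one_smul] at e1
      have hq0 : q = 0 := by
        have e1 : w ^ 2 • (p + (q + r)) + (p + (w • q + w ^ 2 • r)) = 0 := by rw [h1, h3]; simp
        have e2 : w ^ 2 • (p + (q + r)) + (p + (w • q + w ^ 2 • r)) =
            (w ^ 2 + 1) • p + (w ^ 2 + w) • q + (2 * w ^ 2) • r := by module
        rw [e2, hp0, smul_zero, zero_add, h2, zero_mul, zero_smul, add_zero] at e1
        have h5 : w ^ 2 + w = 1 := by linear_combination hw - h2
        rwa [h5, one_smul] at e1
      have hr0 : r = 0 := by rw [hp0, hq0] at h1; simpa using h1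
      subst hp0 hq0 hr0
      rfl
    · intro u
      have e1 : u + x u + x (x u) ∈ fx x := by
        rw [mem_fx, map_add, map_add, hx3]; abel
      have e2 : u + w ^ 2 • x u + w • x (x u) ∈ LinearMap.ker (x - w • (1 : Module.End k U)) := by
        rw [hA, map_add, map_add, map_smul, map_smul, hx3]
        have : w ^ 3 = 1 := by linear_combination (w - 1) * hw
        rw [smul_add, smul_add, smul_smul, smul_smul, show w * w ^ 2 = 1 by rw [← this]; ring, one_smul,
          show w * w = w ^ 2 by ring]
        abel
      have e3 : u + w • x u + w ^ 2 • x (x u) ∈ LinearMap.ker (x - w ^ 2 • (1 : Module.End k U)) := by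
        rw [hB, map_add, map_add, map_smul, map_smul, hx3]
        have : w ^ 3 = 1 := by linear_combination (w - 1) * hw
        rw [smul_add, smul_add, smul_smul, smul_smul, show w ^ 2 * w = 1 by rw [← this]; ring, one_smul,
          show w ^ 2 * w ^ 2 = w by linear_combination (w ^ 2 - w) * hw]
        abel
      refine ⟨⟨⟨_, e1⟩, ⟨_, e2⟩, ⟨_, e3⟩⟩, ?_⟩
      change u + x u + x (x u) + (u + w ^ 2 • x u + w • x (x u) + (u + w • x u + w ^ 2 • x (x u))) = u
      have e4 : u + x u + x (x u) + (u + w ^ 2 • x u + w • x (x u) + (u + w • x u + w ^ 2 • x (x u))) =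
          (3 : k) • u + (w ^ 2 + w + 1) • x u + (w ^ 2 + w + 1) • x (x u) := by module
      rw [e4, hw, zero_smul, zero_smul, add_zero, add_zero, show (3 : k) = 1 by linear_combination h2, one_smul]
  rw [← (LinearEquiv.ofBijective f hf).finrank_eq, Module.finrank_prod, Module.finrank_prod]

/-- the eigenspaces of an inverted element of order three -/
theorem even3 (hw : w ^ 2 + w + 1 = 0) {x r : Module.End k U} (hx : x * (x * x) = 1) (hr : Function.Injective r)
    (hrx : r * x = x * x * r) :
    finrank k U = finrank k (fx x) + 2 * finrank k (LinearMap.ker (x - w • (1 : Module.End k U))) := by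
  have h1 := split3 hw hx
  have hw3 : w ^ 3 = 1 := by linear_combination (w - 1) * hw
  have hx3 : ∀ u, x (x (x u)) = u := fun u => DFunLike.congr_fun hx u
  have hrx' : ∀ u, r (x u) = x (x (r u)) := fun u => DFunLike.congr_fun hrx u
  have hA : ∀ (c : k) (u : U), u ∈ LinearMap.ker (x - c • (1 : Module.End k U)) ↔ x u = c • u := by
    intro c u
    rw [LinearMap.mem_ker, LinearMap.sub_apply, LinearMap.smul_apply, Module.End.one_apply, sub_eq_zero]
  have key : ∀ c d : k, c * d = 1 → finrank k (LinearMap.ker (x - c • (1 : Module.End k U))) ≤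
      finrank k (LinearMap.ker (x - d • (1 : Module.End k U))) := by
    intro c d hcd
    let γ : LinearMap.ker (x - c • (1 : Module.End k U)) →ₗ[k] LinearMap.ker (x - d • (1 : Module.End k U)) :=
      (r.comp (LinearMap.ker (x - c • (1 : Module.End k U))).subtype).codRestrict _ (fun u => by
        have hu := (hA c u).1 u.2
        rw [hA]
        change x (r u) = d • r u
        have e1 : x (x (r u)) = c • r u := by rw [← hrx', hu, map_smul]
        have e2 : r u = c • x (r u) := by rw [← map_smul, ← e1, hx3]
        rw [show x (r (u : U)) = (1 : k) • x (r u) by rw [one_smul], ← hcd, mul_comm, ← smul_smul, ← e2])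
    apply LinearMap.finrank_le_finrank_of_injective (f := γ)
    rw [← LinearMap.ker_eq_bot, LinearMap.ker_eq_bot']
    intro u hu
    apply Subtype.ext
    apply hr
    rw [Submodule.coe_zero, map_zero]
    exact congrArg Subtype.val hu
  have h2 := key w (w ^ 2) (by rw [← hw3]; ring)
  have h3 := key (w ^ 2) w (by rw [← hw3]; ring)
  omega

/-- the determinant argument -/
theorem three_dvd (hw : w ^ 2 + w + 1 = 0) {x : Module.End k U} (l : List (Module.End k U))
    (hl : ∀ a ∈ l, a * a = 1 ∧ a * x = x * a) (hx : x = l.prod) :
    3 ∣ finrank k (LinearMap.ker (x - w • (1 : Module.End k U))) := by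
  set A := LinearMap.ker (x - w • (1 : Module.End k U)) with hAdef
  have hA : ∀ u, u ∈ A ↔ x u = w • u := by
    intro u
    rw [hAdef, LinearMap.mem_ker, LinearMap.sub_apply, LinearMap.smul_apply, Module.End.one_apply, sub_eq_zero]
  have hinv : ∀ a : Module.End k U, a * x = x * a → ∀ u ∈ A, a u ∈ A := by
    intro a ha u hu
    rw [hA] at hu ⊢
    have : x (a u) = a (x u) := (DFunLike.congr_fun ha u).symm
    rw [this, hu, map_smul]
  have hw3 : w ^ 3 = 1 := by linear_combination (w - 1) * hw
  have hdet : ∀ l : List (Module.End k U), (∀ a ∈ l, a * a = 1 ∧ a * x = x * a) →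
      ∃ (h : ∀ u ∈ A, l.prod u ∈ A), LinearMap.det (l.prod.restrict h) = 1 := by
    intro l
    induction l with
    | nil =>
      intro _
      refine ⟨fun u hu => hu, ?_⟩
      have : (LinearMap.restrict ([] : List (Module.End k U)).prod (p := A) (q := A) fun u hu => hu) = LinearMap.id := by
        apply LinearMap.ext
        intro u
        rfl
      rw [this, LinearMap.det_id]
    | cons a l ih =>
      intro hl
      obtain ⟨h1, h2⟩ := ih (fun b hb => hl b (List.mem_cons_of_mem _ hb))
      obtain ⟨ha1, ha2⟩ := hl a List.mem_cons_self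
      have ha := hinv a ha2
      refine ⟨fun u hu => by
        rw [List.prod_cons, Module.End.mul_apply]
        exact ha _ (h1 u hu), ?_⟩
      have h3 : LinearMap.restrict (List.prod (a :: l)) (p := A) (q := A) (fun u hu => by
        rw [List.prod_cons, Module.End.mul_apply]
        exact ha _ (h1 u hu)) = (a.restrict ha) ∘ₗ (l.prod.restrict h1) := by
        apply LinearMap.ext
        intro u
        rfl
      rw [h3, LinearMap.det_comp, h2, mul_one]
      have h4 : LinearMap.det (a.restrict ha) * LinearMap.det (a.restrict ha) = 1 := by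
        rw [← LinearMap.det_comp]
        have : (a.restrict ha) ∘ₗ (a.restrict ha) = LinearMap.id := by
          apply LinearMap.ext
          intro u
          apply Subtype.ext
          exact DFunLike.congr_fun ha1 (u : U)
        rw [this, LinearMap.det_id]
      have h2' : (2 : k) = 0 := CharP.cast_eq_zero k 2
      have h5 : (LinearMap.det (a.restrict ha) - 1) ^ 2 = 0 := by
        linear_combination h4 - (LinearMap.det (a.restrict ha) - 1) * h2'
      have h6 := pow_eq_zero_iff (two_ne_zero) |>.1 h5
      exact sub_eq_zero.1 h6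
  obtain ⟨h1, h2⟩ := hdet l hl
  have h3 : l.prod.restrict h1 = w • (LinearMap.id : A →ₗ[k] A) := by
    apply LinearMap.ext
    intro u
    apply Subtype.ext
    change l.prod u = w • (u : U)
    rw [← hx]
    exact (hA u).1 u.2
  rw [h3, LinearMap.det_smul, LinearMap.det_id, mul_one] at h2
  have hw1 : w ≠ 1 := by
    rintro rfl
    have h2' : (2 : k) = 0 := CharP.cast_eq_zero k 2
    have : (1 : k) = 0 := by linear_combination hw - h2'
    exact one_ne_zero this
  have ho : orderOf w = 3 := by
    have : Fact (Nat.Prime 3) := ⟨Nat.prime_three⟩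
    exact orderOf_eq_prime hw3 hw1
  rw [← ho]
  exact orderOf_dvd_of_pow_eq_one h2

/-- squares of elements of order four act trivially on spaces of dimension at most two -/
theorem sq_fix {g : Module.End k U} (hU : finrank k U ≤ 2) (hg : g * g * (g * g) = 1) : g * g = 1 := by
  have h2 : (2 : k) = 0 := CharP.cast_eq_zero k 2
  have h22 : ∀ f : Module.End k U, f + f = 0 := fun f => add_self k f
  have hsq : ∀ a : Module.End k U, (a - 1) ^ 2 = a * a - 1 := by
    intro a
    have : (a - 1) ^ 2 = (a * a - 1) - (a + a) + (1 + 1) := by noncomm_ring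
    rw [this, h22, h22]; abel
  have h4 : (g - 1) ^ 4 = 0 := by
    rw [show (4 : ℕ) = 2 * 2 by norm_num, pow_mul, hsq g, hsq (g * g), hg, sub_self]
  have h5 := Module.End.ker_pow_eq_ker_pow_finrank_of_le (f := g - 1) (m := 4) (by omega)
  have h6 := Module.End.ker_pow_eq_ker_pow_finrank_of_le (f := g - 1) (m := 2) hU
  have h7 : LinearMap.ker ((g - 1) ^ 2) = ⊤ := by
    rw [h6, ← h5, h4, LinearMap.ker_zero]
  rw [LinearMap.ker_eq_top, hsq] at h7
  exact sub_eq_zero.1 h7

end char2

end Cfsg.Agent.H4.JT
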